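import Mathlib.RingTheory.Valuation.ValuationSubring
import Mathlib.Order.Filter.Ultrafilter.Basic
import Mathlib.Order.Filter.AtTopBot.Basic

/-!
# Quasi-compactness of the space of valuation rings of `L / k`
-/

set_option autoImplicit false
universe u

namespace K299.ZRCompact

open Filter

variable (k L : Type u) [Field k] [Field L] [Algebra k L]

/-- The ultraproduct of valuation subrings. -/
def ultra {L : Type u} [Field L] {ι : Type*} (U : Ultrafilter ι) (W : ι → ValuationSubring L) : ValuationSubring L where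
  carrier := {x | ∀ᶠ i in U, x ∈ W i}
  mul_mem' ha hb := by filter_upwards [ha, hb] with i h1 h2 using mul_mem h1 h2
  one_mem' := Eventually.of_forall fun i => one_mem (W i)
  add_mem' ha hb := by filter_upwards [ha, hb] with i h1 h2 using add_mem h1 h2
  zero_mem' := Eventually.of_forall fun i => zero_mem (W i)
  neg_mem' ha := by filter_upwards [ha] with i h1 using neg_mem h1
  mem_or_inv_mem' x := by
    refine Ultrafilter.eventually_or.1 ?_
    exact Eventually.of_forall fun i => (W i).mem_or_inv_mem x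

theorem mem_ultra {L : Type u} [Field L] {ι : Type*} (U : Ultrafilter ι) (W : ι → ValuationSubring L) (x : L) :
    x ∈ ultra U W ↔ ∀ᶠ i in U, x ∈ W i := Iff.rfl

theorem exists_finite_subfamily (𝓔 : Set (Finset L))
    (h : ∀ W : ValuationSubring L, (∀ a : k, algebraMap k L a ∈ W) → ∃ E ∈ 𝓔, ∀ x ∈ E, x ∈ W) :
    ∃ 𝓕 : Finset (Finset L), (∀ E ∈ 𝓕, E ∈ 𝓔) ∧
      ∀ W : ValuationSubring L, (∀ a : k, algebraMap k L a ∈ W) → ∃ E ∈ 𝓕, ∀ x ∈ E, x ∈ W := by
  classical
  by_contra hcon
  push Not at hcon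
  have hex : ∀ s : Finset 𝓔, ∃ W : ValuationSubring L, (∀ a : k, algebraMap k L a ∈ W) ∧
      ∀ E ∈ s, ∃ x ∈ E.1, x ∉ W := by
    intro s
    obtain ⟨W, h1, h2⟩ := hcon (s.image Subtype.val) (by
      intro E hE
      obtain ⟨E', -, rfl⟩ := Finset.mem_image.1 hE
      exact E'.2)
    exact ⟨W, h1, fun E hE => h2 E.1 (Finset.mem_image_of_mem _ hE)⟩
  choose W hk hW using hex
  let U : Ultrafilter (Finset 𝓔) := Ultrafilter.of atTop
  have hU : (U : Filter (Finset 𝓔)) ≤ atTop := Ultrafilter.of_le _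
  obtain ⟨E, hE, hEW⟩ := h (ultra U W) (fun a => Eventually.of_forall fun s => hk s a)
  have h1 : ∀ᶠ s in (U : Filter (Finset 𝓔)), ∀ x ∈ E, x ∈ W s := (eventually_all_finset E).2 hEW
  have h2 : ∀ᶠ s in (U : Filter (Finset 𝓔)), (⟨E, hE⟩ : 𝓔) ∈ s := by
    refine hU ?_
    filter_upwards [eventually_ge_atTop ({⟨E, hE⟩} : Finset 𝓔)] with s hs
    exact hs (Finset.mem_singleton_self _)
  obtain ⟨s, hs1, hs2⟩ := (h1.and h2).exists
  obtain ⟨x, hx1, hx2⟩ := hW s _ hs2
  exact hx2 (hs1 x hx1)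

end K299.ZRCompact
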