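import Groth.Agent.NonAbH1.K299.ValExt
import Groth.Agent.NonAbH1.K299.ZRCompact
import Groth.Agent.Pi1A.FEtLimit

/-!
# The abelian extension over which a finite étale cover becomes unramified at all valuations; finitely many charts
-/

set_option autoImplicit false
universe u

open CategoryTheory CategoryTheory.Limits AlgebraicGeometry TensorProduct

namespace K299.FEtVal

open Groth.Agent.Pi1A.FEtAffine

theorem essImage_of_comp {T T' P : Scheme.{u}} (s : P ⟶ T') (r : T' ⟶ T) (t : P ⟶ T) (h : s ≫ r = t)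
    {Y₀ : FEt.Cat P} (h0 : (FEt.restrict t).essImage Y₀) : (FEt.restrict s).essImage Y₀ := by
  obtain ⟨Y, ⟨e⟩⟩ := h0
  exact ⟨(FEt.restrict r).obj Y, ⟨((restrictComp s r).app Y).symm ≪≫ (restrictCongr h).app Y ≪≫ e⟩⟩

theorem essImage_of_algEquiv {A L D C : Type u} [CommRing A] [CommRing L] [Algebra A L] [CommRing D] [Algebra L D]
    [Module.Finite L D] [Algebra.Etale L D] [CommRing C] [Algebra A C] [Module.Finite A C] [Algebra.Etale A C]
    (e : L ⊗[A] C ≃ₐ[L] D) :
    (FEt.restrict (Spec.map (CommRingCat.ofHom (algebraMap A L)))).essImage (ofAlgebra L D) :=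
  ⟨ofAlgebra A C, ⟨restrictOfAlgebraIso A L C ≪≫ isoOfAlgEquiv e.symm⟩⟩

/-- From a valuation ring to a finitely generated subalgebra. -/
theorem exists_finset {k L : Type u} [Field k] [Field L] [Algebra k L] (W : ValuationSubring L)
    (hW : ∀ a : k, algebraMap k L a ∈ W) {Y₀ : FEt.Cat (Spec (CommRingCat.of L))}
    (h : (FEt.restrict (Spec.map (CommRingCat.ofHom (algebraMap W L)))).essImage Y₀) :
    ∃ E : Finset L, (∀ x ∈ E, x ∈ W) ∧
      (FEt.restrict (Spec.map (CommRingCat.ofHom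
        (algebraMap (Algebra.adjoin k (E : Set L)) L)))).essImage Y₀ := by
  classical
  let φ : k →+* W := (algebraMap k L).codRestrict W.toSubring hW
  let _ : Algebra k W := φ.toAlgebra
  obtain ⟨Y, ⟨e⟩⟩ := h
  obtain ⟨C, _, _, _, _, ⟨eC⟩⟩ := exists_iso_ofAlgebra Y
  obtain ⟨A₁, B₁, _, _, ⟨E₁, hE₁⟩, _, _, ⟨e'⟩⟩ := Groth.Agent.Pi1A.FEtModel.exists_subalgebra_fg k W C
  let E : Finset L := E₁.image (algebraMap W L)
  refine ⟨E, ?_, ?_⟩
  · intro x hx
    obtain ⟨y, -, rfl⟩ := Finset.mem_image.1 hx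
    exact y.2
  · have hsub : ∀ a ∈ A₁, algebraMap W L a ∈ Algebra.adjoin k (E : Set L) := by
      intro a ha
      rw [← hE₁] at ha
      induction ha using Algebra.adjoin_induction with
      | mem x hx => exact Algebra.subset_adjoin (Finset.mem_image_of_mem _ hx)
      | algebraMap r => exact Subalgebra.algebraMap_mem _ r
      | add x y _ _ hx hy => rw [map_add]; exact add_mem hx hy
      | mul x y _ _ hx hy => rw [map_mul]; exact mul_mem hx hy
    let g : A₁ →+* Algebra.adjoin k (E : Set L) :=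
      ((algebraMap W L).comp A₁.val.toRingHom).codRestrict (Algebra.adjoin k (E : Set L)).toSubring
        fun a => hsub a a.2
    refine essImage_of_comp _ (Spec.map (CommRingCat.ofHom g))
      (Spec.map (CommRingCat.ofHom ((algebraMap W L).comp (algebraMap A₁ W)))) ?_ ?_
    · rw [← Spec.map_comp, ← CommRingCat.ofHom_comp]
      rfl
    · refine ⟨ofAlgebra A₁ B₁, ⟨?_⟩⟩
      refine (restrictCongr ?_).app _ ≪≫ (restrictComp (Spec.map (CommRingCat.ofHom (algebraMap W L)))
        (Spec.map (CommRingCat.ofHom (algebraMap A₁ W)))).app _ ≪≫ (FEt.restrict _).mapIso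
          (restrictOfAlgebraIso A₁ W B₁ ≪≫ isoOfAlgEquiv e' ≪≫ eC.symm) ≪≫ e
      rw [← Spec.map_comp, ← CommRingCat.ofHom_comp]

theorem exists_main (k K : Type u) [Field k] [IsAlgClosed k] [CharZero k] [Field K] [Algebra k K]
    (V : FEt.Cat (Spec (CommRingCat.of K))) :
    ∃ (L : Type u) (_ : Field L) (_ : Algebra K L) (_ : FiniteDimensional K L) (_ : IsGalois K L)
      (_ : Algebra k L) (_ : IsScalarTower k K L),
      (∀ σ τ : L ≃ₐ[K] L, σ * τ = τ * σ) ∧
      ∃ 𝓕 : Finset (Finset L),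
        (∀ E ∈ 𝓕, (FEt.restrict (Spec.map (CommRingCat.ofHom
          (algebraMap (Algebra.adjoin k (E : Set L)) L)))).essImage
            ((FEt.restrict (Spec.map (CommRingCat.ofHom (algebraMap K L)))).obj V)) ∧
        ∀ W : ValuationSubring L, (∀ a : k, algebraMap k L a ∈ W) → ∃ E ∈ 𝓕, ∀ x ∈ E, x ∈ W := by
  obtain ⟨B, _, _, _, _, ⟨eV⟩⟩ := exists_iso_ofAlgebra V
  obtain ⟨L, _, _, hfd, hgal, hcomm, hval⟩ := ValExt.exists_abelian k K B
  let _ : Algebra k L := ((algebraMap K L).comp (algebraMap k K)).toAlgebra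
  have hst : IsScalarTower k K L := IsScalarTower.of_algebraMap_eq' rfl
  refine ⟨L, inferInstance, inferInstance, hfd, hgal, inferInstance, hst, hcomm, ?_⟩
  obtain ⟨𝓕, h1, h2⟩ := ZRCompact.exists_finite_subfamily k L
    {E : Finset L | (FEt.restrict (Spec.map (CommRingCat.ofHom
          (algebraMap (Algebra.adjoin k (E : Set L)) L)))).essImage
            ((FEt.restrict (Spec.map (CommRingCat.ofHom (algebraMap K L)))).obj V)} (by
    intro W hW
    obtain ⟨C, _, _, _, _, ⟨e⟩⟩ := hval W hW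
    have h3 : (FEt.restrict (Spec.map (CommRingCat.ofHom (algebraMap W L)))).essImage
        ((FEt.restrict (Spec.map (CommRingCat.ofHom (algebraMap K L)))).obj V) := by
      obtain ⟨Y, ⟨e1⟩⟩ := essImage_of_algEquiv (A := W) (L := L) (D := L ⊗[K] B) (C := C) e
      exact ⟨Y, ⟨e1 ≪≫ (restrictOfAlgebraIso K L B).symm ≪≫ (FEt.restrict _).mapIso eV.symm⟩⟩
    obtain ⟨E, hE1, hE2⟩ := exists_finset W hW h3
    exact ⟨E, hE2, hE1⟩)
  exact ⟨𝓕, fun E hE => h1 E hE, h2⟩

end K299.FEtVal
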