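import Groth.Agent.NonAbH1.K299.PnPoint
import Groth.Agent.S4448
import Groth.Agent.S9674
import Groth.Agent.S7616
import Groth.Agent.CycB.ImageInt
import Groth.Agent.CalgB.ProjField
import Groth.Agent.S10962
import Groth.Agent.Flat2H.FamOpen
import Groth.Agent.Ega3B.ProjProper
import Groth.Prelude.Def_RelProj
import Groth.Prelude.Def_Pi1

/-!
# Normal projective models of a finitely generated field, with a condition on the local rings

* `exists_model`: for a finitely generated field extension `L / k` and finitely many `f` in `L` there is a normal projective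
  model `Z` of `L / k` such that for every `z` in `Z` and every such `f`, `f` or `f⁻¹` is in the local ring of `Z` at `z`.
-/

set_option autoImplicit false
universe u

open CategoryTheory CategoryTheory.Limits AlgebraicGeometry

namespace K299.Model

open PnPoint

section coords

variable {L : Type u} [Field L]

theorem exists_coords (E : Finset L) (h0 : (0 : L) ∉ E) : ∃ (n : ℕ) (t : Fin (n + 1) → L), (∀ i, t i ≠ 0) ∧
    ∀ i, ∀ f ∈ E, (∃ l, t l / t i = f) ∨ (∃ l, t l / t i = f⁻¹) := by
  classical
  obtain ⟨n, hn⟩ : ∃ n, E.powerset.card = n + 1 :=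
    Nat.exists_eq_succ_of_ne_zero (Finset.card_ne_zero_of_mem (Finset.empty_mem_powerset E))
  let e : E.powerset ≃ Fin (n + 1) := E.powerset.equivFin.trans (finCongr hn)
  let T : E.powerset → L := fun A => ∏ f ∈ A.1, f
  have hT : ∀ A, T A ≠ 0 := fun A => Finset.prod_ne_zero_iff.2 fun f hf h =>
    h0 (h ▸ Finset.mem_powerset.1 A.2 hf)
  refine ⟨n, fun i => T (e.symm i), fun i => hT _, fun i f hf => ?_⟩
  set A := e.symm i with hA
  have hf0 : f ≠ 0 := fun h => h0 (h ▸ hf)
  by_cases hfA : f ∈ A.1
  · right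
    refine ⟨e ⟨A.1.erase f, Finset.mem_powerset.2 ((Finset.erase_subset _ _).trans (Finset.mem_powerset.1 A.2))⟩, ?_⟩
    change T (e.symm (e _)) / T A = f⁻¹
    rw [e.symm_apply_apply]
    have h1 : f * ∏ g ∈ A.1.erase f, g = ∏ g ∈ A.1, g := Finset.mul_prod_erase A.1 (fun g => g) hfA
    have h2 : T A = f * ∏ g ∈ A.1.erase f, g := h1.symm
    have h3 : ∏ g ∈ A.1.erase f, g ≠ 0 := right_ne_zero_of_mul (h2 ▸ hT A)
    rw [h2]
    change (∏ g ∈ A.1.erase f, g) / _ = _
    field_simp
  · left
    refine ⟨e ⟨insert f A.1, Finset.mem_powerset.2 (Finset.insert_subset hf (Finset.mem_powerset.1 A.2))⟩, ?_⟩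
    change T (e.symm (e _)) / T A = f
    rw [e.symm_apply_apply]
    have h1 : ∏ g ∈ insert f A.1, g = f * ∏ g ∈ A.1, g := Finset.prod_insert hfA
    change (∏ g ∈ insert f A.1, g) / T A = f
    rw [h1, mul_div_assoc]
    change f * (T A / T A) = f
    rw [div_self (hT A), mul_one]

end coords

section stalk

variable {X : Scheme.{u}} {L : Type u} [Field L] (j : Spec (CommRingCat.of L) ⟶ X)

theorem exists_stalk_map (x : X) (h : j (IsLocalRing.closedPoint L) ⤳ x) :
    ∃ φ : X.presheaf.stalk x ⟶ CommRingCat.of L, Spec.map φ ≫ X.fromSpecStalk x = j := by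
  refine ⟨X.presheaf.stalkSpecializes h ≫ Scheme.stalkClosedPointTo j, ?_⟩
  rw [Spec.map_comp, Category.assoc, Scheme.SpecMap_stalkSpecializes_fromSpecStalk,
    Scheme.Spec_stalkClosedPointTo_fromSpecStalk]

theorem exists_stalk_map_bijective (x : X) (h : j (IsLocalRing.closedPoint L) = x)
    (hb : Function.Bijective (Scheme.stalkClosedPointTo j).hom) :
    ∃ φ : X.presheaf.stalk x ⟶ CommRingCat.of L, Spec.map φ ≫ X.fromSpecStalk x = j ∧ Function.Bijective φ.hom := by
  subst h
  exact ⟨Scheme.stalkClosedPointTo j, Scheme.Spec_stalkClosedPointTo_fromSpecStalk j, hb⟩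

theorem unique_stalk_map (x : X) (φ ψ : X.presheaf.stalk x ⟶ CommRingCat.of L)
    (h : Spec.map φ ≫ X.fromSpecStalk x = Spec.map ψ ≫ X.fromSpecStalk x) : φ = ψ :=
  Spec.map_injective ((cancel_mono _).1 h)

theorem surjective_stalkClosedPointTo (x : X) (h : j (IsLocalRing.closedPoint L) = x)
    (φ : X.presheaf.stalk x ⟶ CommRingCat.of L) (hφ : Spec.map φ ≫ X.fromSpecStalk x = j)
    (hs : Function.Surjective φ.hom) : Function.Surjective (Scheme.stalkClosedPointTo j).hom := by
  subst h
  rw [← unique_stalk_map _ φ (Scheme.stalkClosedPointTo j)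
    (by rw [hφ, Scheme.Spec_stalkClosedPointTo_fromSpecStalk])]
  exact hs

theorem surjective_residueFieldMap (hs : Function.Surjective (Scheme.stalkClosedPointTo j).hom)
    (x : Spec (CommRingCat.of L)) : Function.Surjective (j.residueFieldMap x).hom := by
  have hx : x = IsLocalRing.closedPoint L := Subsingleton.elim (α := PrimeSpectrum L) _ _
  subst hx
  have h1 : Function.Surjective (j.stalkMap (IsLocalRing.closedPoint L)).hom := by
    intro y
    obtain ⟨a, ha⟩ := hs ((stalkClosedPointIso (CommRingCat.of L)).hom.hom y)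
    refine ⟨a, ?_⟩
    have h2 : Function.Injective (stalkClosedPointIso (CommRingCat.of L)).hom.hom :=
      (stalkClosedPointIso (CommRingCat.of L)).commRingCatIsoToRingEquiv.injective
    exact h2 ha
  have h3 : Function.Surjective (X.residue (j (IsLocalRing.closedPoint L)) ≫
      j.residueFieldMap (IsLocalRing.closedPoint L)).hom := by
    rw [Scheme.residue_residueFieldMap]
    exact (Scheme.residue_surjective _ _).comp h1
  rw [CommRingCat.hom_comp, RingHom.coe_comp] at h3
  exact Function.Surjective.of_comp h3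

/-- Constants are in the local rings. -/
theorem algebraMap_mem {k : Type u} [Field k] [Algebra k L] (z : X ⟶ Spec (CommRingCat.of k))
    (hz : j ≫ z = Spec.map (CommRingCat.ofHom (algebraMap k L))) (x : X) (φ : X.presheaf.stalk x ⟶ CommRingCat.of L)
    (hφ : Spec.map φ ≫ X.fromSpecStalk x = j) (a : k) : algebraMap k L a ∈ φ.hom.range := by
  have h1 : Spec.preimage (X.fromSpecStalk x ≫ z) ≫ φ = CommRingCat.ofHom (algebraMap k L) := by
    apply Spec.map_injective
    rw [Spec.map_comp, Spec.map_preimage, ← Category.assoc, hφ, hz]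
  exact ⟨_, congrArg (fun f => f.hom a) h1⟩

end stalk

theorem isNagata_of_lft {k : Type u} [Field k] {X : Scheme.{u}} (f : X ⟶ Spec (CommRingCat.of k))
    [LocallyOfFiniteType f] (U : X.affineOpens) : CAlg.IsNagata Γ(X, U) := by
  obtain ⟨U, hU⟩ := U
  have hft : (f.appLE ⊤ U le_top).hom.FiniteType :=
    f.finiteType_appLE (isAffineOpen_top _) hU le_top
  have hft2 : ((f.appLE ⊤ U le_top).hom.comp
      (Scheme.ΓSpecIso (CommRingCat.of k)).inv.hom).FiniteType :=
    hft.comp (RingHom.FiniteType.of_surjective _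
      (Scheme.ΓSpecIso (CommRingCat.of k)).symm.commRingCatIsoToRingEquiv.surjective)
  let : Algebra k Γ(X, U) := ((f.appLE ⊤ U le_top).hom.comp
      (Scheme.ΓSpecIso (CommRingCat.of k)).inv.hom).toAlgebra
  have : Algebra.FiniteType k Γ(X, U) := hft2
  exact Groth.Agent.S0566.result k (Groth.Agent.S7616.isNagata_field k) Γ(X, U)

theorem exists_model (k L : Type u) [Field k] [Field L] [Algebra k L] (hL : (⊤ : IntermediateField k L).FG)
    (E : Finset L) :
    ∃ (Z : Scheme.{u}) (_ : IsIntegral Z) (_ : Pi1.IsNormalScheme Z) (z : Z ⟶ Spec (CommRingCat.of k)) (_ : IsProper z)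
      (_ : RelProj.IsHProjective z) (e : Spec (CommRingCat.of L) ≅ Spec Z.functionField)
      (_ : (e.hom ≫ Z.fromSpecStalk (genericPoint Z)) ≫ z = Spec.map (CommRingCat.ofHom (algebraMap k L))),
      ∀ x : Z, ∃ φ : Z.presheaf.stalk x ⟶ CommRingCat.of L,
        Spec.map φ ≫ Z.fromSpecStalk x = e.hom ≫ Z.fromSpecStalk (genericPoint Z) ∧
        ∀ f ∈ E, f ∈ φ.hom.range ∨ f⁻¹ ∈ φ.hom.range := by
  classical
  obtain ⟨S, hS⟩ := hL
  let E' : Finset L := (E ∪ S).erase 0
  obtain ⟨n, t, ht, hE'⟩ := exists_coords E' (Finset.notMem_erase 0 _)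
  let P := Proj (CohB1.polyGrading n k)
  let toS : P ⟶ Spec (CommRingCat.of k) := Proj.toSpecZero (CohB1.polyGrading n k) ≫
    Spec.map (CommRingCat.ofHom (algebraMap k (CohB1.polyGrading n k 0)))
  have hprop : IsProper toS := Groth.Agent.Ega3B.ProjProper.isProper_toSpec n k
  let g : Spec (CommRingCat.of L) ⟶ P := pt (k := k) t ht
  have hgS : g ≫ toS = Spec.map (CommRingCat.ofHom (algebraMap k L)) := pt_toSpec t ht
  have hqc : QuasiCompact g := by
    have : QuasiCompact (g ≫ toS) := by rw [hgS]; infer_instance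
    exact QuasiCompact.of_comp g toS
  let Z' := g.image
  let g' : Spec (CommRingCat.of L) ⟶ Z' := g.toImage
  have hg' : g' ≫ g.imageι = g := g.toImage_imageι
  have hint : IsIntegral Z' := Groth.Agent.CycB.ImageInt.isIntegral_image g
  have hgen : g' (genericPoint _) = genericPoint Z' := Groth.Agent.CycB.ImageInt.toImage_genericPoint g
  have hqc' : QuasiCompact g' := by
    have : QuasiCompact (g' ≫ g.imageι) := by rw [hg']; infer_instance
    exact QuasiCompact.of_comp g' g.imageι
  have hqs' : QuasiSeparated g' := inferInstance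
  have hg'S : g' ≫ g.imageι ≫ toS = Spec.map (CommRingCat.ofHom (algebraMap k L)) := by
    rw [← Category.assoc, hg', hgS]
  -- the function field of `Z'` is `L`
  have hj' : g' (IsLocalRing.closedPoint L) = genericPoint Z' := by
    rw [← hgen]
    exact congrArg g' (Subsingleton.elim (α := PrimeSpectrum L) _ _)
  obtain ⟨φ', hφ'⟩ := exists_stalk_map g' (genericPoint Z') (by rw [hj'])
  let ψ : Z'.functionField →+* L := φ'.hom
  have hmemE : ∀ f ∈ E', f ∈ ψ.fieldRange := by
    intro f hf
    obtain ⟨i, hi⟩ := ratio_mem (k := k) t ht g' g.imageι hg' (genericPoint Z') φ' hφ'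
    rcases hE' i f hf with ⟨l, hl⟩ | ⟨l, hl⟩
    · rw [← hl]; exact hi l
    · have h1 : f⁻¹ ∈ ψ.fieldRange := by rw [← hl]; exact hi l
      rw [← inv_inv f]
      exact inv_mem h1
  let F : IntermediateField k L := Subfield.toIntermediateField ψ.fieldRange fun a =>
    algebraMap_mem g' (g.imageι ≫ toS) hg'S (genericPoint Z') φ' hφ' a
  have hF : F = ⊤ := by
    rw [eq_top_iff, ← hS, IntermediateField.adjoin_le_iff]
    intro s hs
    by_cases h0 : s = 0
    · rw [h0]; exact zero_mem F
    · exact hmemE s (Finset.mem_erase.2 ⟨h0, Finset.mem_union_right _ hs⟩)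
  have hsurj : Function.Surjective ψ := fun y => by
    have : y ∈ F := by rw [hF]; exact IntermediateField.mem_top
    exact this
  -- the normalization
  obtain ⟨hZint, hnorm, -, h4, h5, h6⟩ := Groth.Agent.S4448.result Z' L ψ g' hφ'.symm
  let Z := g'.normalization
  let j : Spec (CommRingCat.of L) ⟶ Z := g'.toNormalization
  let ν : Z ⟶ Z' := g'.fromNormalization
  have hjν : j ≫ ν = g' := g'.toNormalization_fromNormalization
  have hbij : Function.Bijective (Scheme.stalkClosedPointTo j).hom := by
    refine ⟨h5, fun y => ?_⟩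
    have h7 : y ∈ Set.range (Scheme.stalkClosedPointTo g'.toNormalization).hom := by
      rw [h6]
      obtain ⟨a, ha⟩ := hsurj y
      exact ⟨Polynomial.X - Polynomial.C a, Polynomial.monic_X_sub_C a, by simp [ha]⟩
    exact h7
  obtain ⟨φ, hφ, hφb⟩ := exists_stalk_map_bijective j (genericPoint Z) h4 hbij
  have hφiso : IsIso φ := (ConcreteCategory.isIso_iff_bijective φ).2 hφb
  have hfin : IsFinite ν := by
    refine Groth.Agent.S9674.result g' (isNagata_of_lft (g.imageι ≫ toS)) ?_ ?_
    · have h8 : Finite (PrimeSpectrum L) := inferInstance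
      have h9 : Finite ↥(Spec (CommRingCat.of L)) := h8
      exact locallyFinite_of_finite _
    · intro x _
      have h10 : Function.Surjective (Scheme.stalkClosedPointTo g').hom :=
        surjective_stalkClosedPointTo g' _ hj' φ' hφ' hsurj
      exact (RingHom.FiniteType.of_surjective _ (surjective_residueFieldMap g' h10 x)).essFiniteType
  let h' : Z ⟶ P := ν ≫ g.imageι
  have hjh : j ≫ h' = g := by rw [← Category.assoc, hjν, hg']
  have hprop' : IsProper (h' ≫ toS) := inferInstance
  have hproj : RelProj.IsHProjective (h' ≫ toS) := by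
    have haff : IsAffineHom h' := inferInstance
    refine (Groth.Agent.CalgB.ProjImm.closedImmersion_iff
      (Groth.Agent.CalgB.ProjField.exists_isAmple_of_isAffine _) (h' ≫ toS)).2 ⟨inferInstance, ?_⟩
    let h'' : Z ⟶ CohB1.ProjSpace n k := h'
    have haff' : IsAffineHom h'' := haff
    exact ⟨_, Groth.Agent.Flat2H.FamOpen.isAmple_pullback_of_isAffineHom h''
      (Groth.Agent.S10962.isAmple_of_pos k n one_pos)⟩
  refine ⟨Z, hZint, hnorm, h' ≫ toS, hprop', hproj, asIso (Spec.map φ), ?_, fun x => ?_⟩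
  · rw [asIso_hom]
    have : (Spec.map φ ≫ Z.fromSpecStalk (genericPoint Z)) ≫ h' ≫ toS = j ≫ h' ≫ toS :=
      congrArg (· ≫ h' ≫ toS) hφ
    exact this.trans (by rw [← Category.assoc, hjh, hgS])
  · obtain ⟨φx, hφx⟩ := exists_stalk_map j x (by
      rw [show j (IsLocalRing.closedPoint L) = genericPoint Z from h4]
      exact genericPoint_specializes x)
    refine ⟨φx, hφx.trans hφ.symm, fun f hf => ?_⟩
    by_cases h0 : f = 0
    · left; rw [h0]; exact zero_mem _
    · obtain ⟨i, hi⟩ := ratio_mem (k := k) t ht j h' hjh x φx hφx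
      rcases hE' i f (Finset.mem_erase.2 ⟨h0, Finset.mem_union_left _ hf⟩) with ⟨l, hl⟩ | ⟨l, hl⟩
      · left; rw [← hl]; exact hi l
      · right; rw [← hl]; exact hi l

end K299.Model
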