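import Groth.Agent.NonAbH1.K299.ExtCover
import Groth.Agent.NonAbH1.K299.Model
import Groth.Agent.NonAbH1.K299.FEtVal
import Mathlib.AlgebraicGeometry.SpreadingOut
import Mathlib.AlgebraicGeometry.FunctionField

/-!
# Extension of a finite étale cover of `Spec L` to a normal projective model
-/

set_option autoImplicit false
universe u

open CategoryTheory CategoryTheory.Limits AlgebraicGeometry

namespace K299.CoverZ

open Groth.Agent.Pi1A.FEtAffine FEtVal

theorem injective_stalk_map {Z : Scheme.{u}} [IsIntegral Z] {L : Type u} [Field L]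
    (j : Spec (CommRingCat.of L) ⟶ Z) (x : Z) (φ : Z.presheaf.stalk x ⟶ CommRingCat.of L)
    (hφ : Spec.map φ ≫ Z.fromSpecStalk x = j) (φη : Z.functionField ⟶ CommRingCat.of L)
    (hη : Spec.map φη ≫ Z.fromSpecStalk (genericPoint Z) = j) : Function.Injective φ.hom := by
  have h1 : φ = Z.presheaf.stalkSpecializes (genericPoint_specializes x) ≫ φη := by
    apply Model.unique_stalk_map x
    rw [hφ, Spec.map_comp, Category.assoc, Scheme.SpecMap_stalkSpecializes_fromSpecStalk, hη]
  rw [h1, CommRingCat.hom_comp, RingHom.coe_comp]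
  refine (RingHom.injective (φη.hom : Z.functionField →+* L)).comp ?_
  exact IsFractionRing.injective (Z.presheaf.stalk x) Z.functionField

theorem exists_cover {k L : Type u} [Field k] [Field L] [Algebra k L] (hL : (⊤ : IntermediateField k L).FG)
    (V : FEt.Cat (Spec (CommRingCat.of L))) (𝓕 : Finset (Finset L))
    (h1 : ∀ E ∈ 𝓕, (FEt.restrict (Spec.map (CommRingCat.ofHom
      (algebraMap (Algebra.adjoin k (E : Set L)) L)))).essImage V)
    (h2 : ∀ W : ValuationSubring L, (∀ a : k, algebraMap k L a ∈ W) → ∃ E ∈ 𝓕, ∀ x ∈ E, x ∈ W) :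
    ∃ (Z : Scheme.{u}) (_ : IsIntegral Z) (_ : Pi1.IsNormalScheme Z) (z : Z ⟶ Spec (CommRingCat.of k)) (_ : IsProper z)
      (_ : RelProj.IsHProjective z) (e : Spec (CommRingCat.of L) ≅ Spec Z.functionField)
      (_ : (e.hom ≫ Z.fromSpecStalk (genericPoint Z)) ≫ z = Spec.map (CommRingCat.ofHom (algebraMap k L)))
      (Y : FEt.Cat Z), Nonempty ((FEt.restrict (e.hom ≫ Z.fromSpecStalk (genericPoint Z))).obj Y ≅ V) := by
  classical
  obtain ⟨Z, hZ, hn, z, hz, hproj, e, hez, hloc⟩ := Model.exists_model k L hL (𝓕.biUnion id)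
  refine ⟨Z, hZ, hn, z, hz, hproj, e, hez, ?_⟩
  let φη : Z.functionField ⟶ CommRingCat.of L := Spec.preimage e.hom
  have hφη : Spec.map φη ≫ Z.fromSpecStalk (genericPoint Z) = e.hom ≫ Z.fromSpecStalk (genericPoint Z) := by
    rw [Spec.map_preimage]
  have hqs : QuasiSeparatedSpace Z := quasiSeparatedSpace_of_quasiSeparated z
  have key : (FEt.restrict (Z.fromSpecStalk (genericPoint Z))).essImage ((FEt.restrict e.inv).obj V) := by
    refine ExtCover.essImage_of_local hn fun x => ?_
    obtain ⟨φ, hφ, hE⟩ := hloc x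
    have hinj := injective_stalk_map _ x φ hφ φη hφη
    have hk := Model.algebraMap_mem _ z hez x φ hφ
    obtain ⟨W, hW, hWloc⟩ := IsLocalRing.exists_factor_valuationRing (R := Z.presheaf.stalk x) (φ.hom : _ →+* L)
    obtain ⟨E, hEF, hEW⟩ := h2 W (fun a => by
      obtain ⟨s, hs⟩ := hk a
      rw [← hs]; exact hW s)
    have hEmem : ∀ f ∈ E, f ∈ φ.hom.range := by
      intro f hf
      rcases hE f (Finset.mem_biUnion.2 ⟨E, hEF, hf⟩) with h3 | ⟨s, hs⟩
      · exact h3
      · by_cases hf0 : f = 0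
        · rw [hf0]; exact zero_mem _
        have h4 : IsUnit ((φ.hom : _ →+* L).codRestrict W.toSubring hW s) := by
          refine IsUnit.of_mul_eq_one ⟨f, hEW f hf⟩ (Subtype.ext ?_)
          change φ.hom s * f = 1
          rw [hs, inv_mul_cancel₀ hf0]
        obtain ⟨s', hs'⟩ := (hWloc.map_nonunit _ h4).exists_right_inv
        refine ⟨s', ?_⟩
        have h5 : φ.hom s * φ.hom s' = 1 := by rw [← map_mul, hs', map_one]
        rw [hs] at h5
        exact (inv_mul_eq_one₀ hf0).1 h5 ▸ rfl
    let A := Algebra.adjoin k (E : Set L)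
    have hA : ∀ a : A, (a : L) ∈ φ.hom.range := by
      rintro ⟨a, ha⟩
      change a ∈ φ.hom.range
      induction ha using Algebra.adjoin_induction with
      | mem x hx => exact hEmem x hx
      | algebraMap r => exact hk r
      | add x y _ _ hx hy => exact add_mem hx hy
      | mul x y _ _ hx hy => exact mul_mem hx hy
    let ρ : Z.presheaf.stalk x ≃+* φ.hom.range := RingEquiv.ofBijective φ.hom.rangeRestrict
      ⟨fun a b h => hinj (congrArg Subtype.val h), φ.hom.rangeRestrict_surjective⟩
    let ψ : A →+* Z.presheaf.stalk x :=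
      ρ.symm.toRingHom.comp ((algebraMap A L).codRestrict φ.hom.range hA)
    have hψ : CommRingCat.ofHom ψ ≫ φ = CommRingCat.ofHom (algebraMap A L) := by
      ext a
      have h6 : ρ (ρ.symm ((algebraMap A L).codRestrict φ.hom.range hA a)) = _ := ρ.apply_symm_apply _
      exact congrArg Subtype.val h6
    have hft : Algebra.FiniteType k A :=
      (Subalgebra.fg_iff_finiteType _).1 (Subalgebra.fg_adjoin_finset E)
    let sY : Spec (CommRingCat.of A) ⟶ Spec (CommRingCat.of k) := Spec.map (CommRingCat.ofHom (algebraMap k A))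
    have hsY : LocallyOfFiniteType sY := by
      rw [HasRingHomProperty.Spec_iff (P := @LocallyOfFiniteType)]
      exact RingHom.finiteType_algebraMap.2 hft
    have hcomp : Spec.map (CommRingCat.ofHom ψ) ≫ sY = Z.fromSpecStalk x ≫ z := by
      have h7 : Spec.preimage (Z.fromSpecStalk x ≫ z) ≫ φ = CommRingCat.ofHom (algebraMap k L) := by
        apply Spec.map_injective
        rw [Spec.map_comp, Spec.map_preimage, ← Category.assoc, hφ, hez]
      have h8 : CommRingCat.ofHom (algebraMap k A) ≫ CommRingCat.ofHom ψ =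
          Spec.preimage (Z.fromSpecStalk x ≫ z) := by
        ext a
        apply hinj
        have h9 := congrArg (fun f => f.hom a) h7
        have h10 := congrArg (fun f => f.hom (algebraMap k A a)) hψ
        exact h10.trans h9.symm
      rw [← Spec.map_comp, h8, Spec.map_preimage]
    obtain ⟨U, hxU, f, hf1, -⟩ := spread_out_of_isGermInjective' z sY (x := x) (Spec.map (CommRingCat.ofHom ψ)) hcomp
    have hηU : genericPoint Z ∈ U := (genericPoint_specializes x).mem_open U.2 hxU
    let s := U.fromSpecStalkOfMem (genericPoint Z) hηU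
    have hs : s ≫ U.ι = Z.fromSpecStalk (genericPoint Z) := U.fromSpecStalkOfMem_ι _ _
    refine ⟨U, hxU, s, hs, ?_⟩
    have h11 : e.hom ≫ s = Spec.map φ ≫ U.fromSpecStalkOfMem x hxU := by
      rw [← cancel_mono U.ι, Category.assoc, Category.assoc, hs, U.fromSpecStalkOfMem_ι, hφ]
    have h12 : s ≫ f = e.inv ≫ Spec.map (CommRingCat.ofHom (algebraMap A L)) := by
      rw [Iso.eq_inv_comp, ← Category.assoc, h11, Category.assoc, ← hf1, ← Spec.map_comp]
      exact congrArg Spec.map hψ
    refine essImage_of_comp s f _ h12 ?_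
    obtain ⟨Y, ⟨ε⟩⟩ := h1 E hEF
    exact ⟨Y, ⟨(restrictComp _ _).app Y ≪≫ (FEt.restrict e.inv).mapIso ε⟩⟩
  obtain ⟨Y, ⟨ε⟩⟩ := key
  exact ⟨Y, ⟨(restrictComp _ _).app Y ≪≫ (FEt.restrict e.hom).mapIso ε ≪≫
    (restrictComp e.hom e.inv).symm.app V ≪≫ (restrictCongr e.hom_inv_id).app V ≪≫ (restrictId _).app V⟩⟩

end K299.CoverZ
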