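import Groth.Agent.Ega3B.NormalBirational
import Groth.Agent.Pi1A.FEtAffine
import Groth.Prelude.Def_Pi1
import Mathlib.AlgebraicGeometry.Normalization

/-!
# Extension of finite étale covers from the generic point of a normal scheme is a local question
-/

set_option autoImplicit false
universe u

open CategoryTheory CategoryTheory.Limits AlgebraicGeometry

namespace K299.ExtCover

open Groth.Agent.Pi1A.FEtAffine

section norm

variable {P P₀ V X : Scheme.{u}}

/-- The normalization only depends on the source up to isomorphism. -/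
theorem exists_iso_of_iso (e : P ≅ P₀) (f₀ : P₀ ⟶ X) (f : P ⟶ X) (hf : f = e.hom ≫ f₀) [QuasiCompact f] [QuasiSeparated f]
    [QuasiCompact f₀] [QuasiSeparated f₀] :
    ∃ d : f.normalization ≅ f₀.normalization, d.hom ≫ f₀.fromNormalization = f.fromNormalization := by
  let a : f.normalization ⟶ f₀.normalization := f.normalizationDesc (e.hom ≫ f₀.toNormalization) f₀.fromNormalization
    (by rw [Category.assoc, f₀.toNormalization_fromNormalization, hf])
  let b : f₀.normalization ⟶ f.normalization := f₀.normalizationDesc (e.inv ≫ f.toNormalization) f.fromNormalization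
    (by rw [Category.assoc, f.toNormalization_fromNormalization, hf, e.inv_hom_id_assoc])
  have ha1 : f.toNormalization ≫ a = e.hom ≫ f₀.toNormalization := f.toNormalization_normalizationDesc _ _ _
  have ha2 : a ≫ f₀.fromNormalization = f.fromNormalization := f.normalizationDesc_comp _ _ _
  have hb1 : f₀.toNormalization ≫ b = e.inv ≫ f.toNormalization := f₀.toNormalization_normalizationDesc _ _ _
  have hb2 : b ≫ f.fromNormalization = f₀.fromNormalization := f₀.normalizationDesc_comp _ _ _
  refine ⟨⟨a, b, ?_, ?_⟩, ha2⟩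
  · refine Scheme.Hom.normalization.hom_ext f _ _ f.fromNormalization ?_ ?_ ?_
    · rw [← Category.assoc, ha1, Category.assoc, hb1, e.hom_inv_id_assoc, Category.comp_id]
    · rw [Category.assoc, hb2, ha2]
    · rw [Category.id_comp]
  · refine Scheme.Hom.normalization.hom_ext f₀ _ _ f₀.fromNormalization ?_ ?_ ?_
    · rw [← Category.assoc, hb1, Category.assoc, ha1, e.inv_hom_id_assoc, Category.comp_id]
    · rw [Category.assoc, ha2, hb2]
    · rw [Category.id_comp]

/-- The relative normalization along a composite with an integral morphism. -/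
theorem exists_iso_of_comp (h : P ⟶ V) (g : V ⟶ X) (f : P ⟶ X)
    (hf : f = h ≫ g) [QuasiCompact h] [QuasiSeparated h] [QuasiCompact f] [QuasiSeparated f]
    [IsIntegralHom g] [IsIso h.fromNormalization] :
    ∃ d : f.normalization ≅ V, d.hom ≫ g = f.fromNormalization := by
  let d : f.normalization ⟶ V := f.normalizationDesc h g hf
  have hd1 : f.toNormalization ≫ d = h := f.toNormalization_normalizationDesc h g hf
  have hd2 : d ≫ g = f.fromNormalization := f.normalizationDesc_comp h g hf
  let e : h.normalization ⟶ f.normalization := h.normalizationDesc f.toNormalization d hd1.symm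
  have he1 : h.toNormalization ≫ e = f.toNormalization := h.toNormalization_normalizationDesc _ _ _
  have he2 : e ≫ d = h.fromNormalization := h.normalizationDesc_comp _ _ _
  have h1 : (inv h.fromNormalization ≫ e) ≫ d = 𝟙 V := by
    rw [Category.assoc, he2, IsIso.inv_hom_id]
  have h2 : d ≫ (inv h.fromNormalization ≫ e) = 𝟙 _ := by
    refine Scheme.Hom.normalization.hom_ext (f := f) _ _ f.fromNormalization ?_ ?_ ?_
    · have h3 : h ≫ inv h.fromNormalization = h.toNormalization := by
        rw [IsIso.comp_inv_eq, h.toNormalization_fromNormalization]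
      rw [← Category.assoc, hd1, ← Category.assoc, h3, he1, Category.comp_id]
    · rw [← hd2, Category.assoc, Category.assoc, ← Category.assoc e, he2,
        IsIso.inv_hom_id_assoc]
    · rw [Category.id_comp]
  exact ⟨⟨d, inv h.fromNormalization ≫ e, h2, h1⟩, hd2⟩

theorem isIso_snd_fromNormalization (s : P ⟶ X) [QuasiCompact s] [QuasiSeparated s] [IsIso s.fromNormalization]
    (q : V ⟶ X) [Smooth q] : IsIso (pullback.snd s q).fromNormalization := by
  rw [← s.normalizationPullback_snd q]
  infer_instance

end norm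

/-- The generic point of a normal integral scheme is its own normalization. -/
theorem isIso_fromNormalization_generic {Z : Scheme.{u}} [IsIntegral Z] (hn : Pi1.IsNormalScheme Z) (U : Z.Opens)
    (s : Spec Z.functionField ⟶ U) (hs : s ≫ U.ι = Z.fromSpecStalk (genericPoint Z)) [QuasiCompact s] [QuasiSeparated s] :
    IsIso s.fromNormalization := by
  have hne : Nonempty U := ⟨s (IsLocalRing.closedPoint _)⟩
  have hpre : IsPreimmersion s := by
    have : IsPreimmersion (s ≫ U.ι) := by rw [hs]; infer_instance
    exact IsPreimmersion.of_comp s U.ι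
  have hUint : IsIntegral U := inferInstance
  have hUn : ∀ y : U, IsIntegrallyClosed (U.toScheme.presheaf.stalk y) := by
    intro y
    have h1 := (hn (U.ι y)).2
    exact IsIntegrallyClosed.of_equiv (asIso (U.ι.stalkMap y)).commRingCatIsoToRingEquiv
  have hgen : s (genericPoint (Spec Z.functionField)) = genericPoint U := by
    apply U.ι.isOpenEmbedding.injective
    have h2 : U.ι (s (genericPoint (Spec Z.functionField))) = genericPoint Z := by
      rw [← Scheme.Hom.comp_apply, hs]
      have h3 : genericPoint (Spec Z.functionField) = IsLocalRing.closedPoint Z.functionField :=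
        Subsingleton.elim (α := PrimeSpectrum Z.functionField) _ _
      rw [h3]
      exact Z.fromSpecStalk_closedPoint
    rw [h2]
    exact (genericPoint_eq_of_isOpenImmersion U.ι).symm
  refine Groth.Agent.Ega3B.NormalBirational.isIso_fromNormalization hUn s hgen ?_
  rw [ConcreteCategory.isIso_iff_bijective]
  refine ⟨?_, s.stalkMap_surjective _⟩
  have h2 : IsField (U.toScheme.presheaf.stalk (s (genericPoint (Spec Z.functionField)))) := by
    rw [hgen]; exact Field.toIsField U.toScheme.functionField
  let _ := h2.toField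
  exact RingHom.injective _

theorem essImage_of_local {Z : Scheme.{u}} [IsIntegral Z] [QuasiSeparatedSpace Z] (hn : Pi1.IsNormalScheme Z)
    {Y₀ : FEt.Cat (Spec Z.functionField)}
    (h : ∀ x : Z, ∃ (U : Z.Opens) (_ : x ∈ U) (s : Spec Z.functionField ⟶ U)
      (_ : s ≫ U.ι = Z.fromSpecStalk (genericPoint Z)), (FEt.restrict s).essImage Y₀) :
    (FEt.restrict (Z.fromSpecStalk (genericPoint Z))).essImage Y₀ := by
  let q₀ : Y₀.left ⟶ Spec Z.functionField := Y₀.hom
  let g : Y₀.left ⟶ Z := q₀ ≫ Z.fromSpecStalk (genericPoint Z)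
  have hY₀ : IsFinite q₀ := Y₀.prop.1
  have haff : IsAffine Y₀.left := isAffine_of_isAffineHom q₀
  have hqc : QuasiCompact g := inferInstance
  have hqs : QuasiSeparated g := inferInstance
  let ν := g.fromNormalization
  have key : ∀ (U : Z.Opens) (s : Spec Z.functionField ⟶ U) (_ : s ≫ U.ι = Z.fromSpecStalk (genericPoint Z))
      (YU : FEt.Cat U) (_ : (FEt.restrict s).obj YU ≅ Y₀),
      ∃ d : pullback ν U.ι ≅ YU.left, d.hom ≫ YU.hom = pullback.snd ν U.ι := by
    intro U s hs YU e
    let q : YU.left ⟶ U := YU.hom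
    have hq1 : IsFinite q := YU.prop.1
    have hq2 : Etale q := YU.prop.2
    have hs1 : QuasiCompact s := by
      have : QuasiCompact (s ≫ U.ι) := by rw [hs]; infer_instance
      exact QuasiCompact.of_comp s U.ι
    have hs2 : QuasiSeparated s := inferInstance
    have hiso := isIso_fromNormalization_generic hn U s hs
    have h1 : IsIso (pullback.snd s q).fromNormalization := isIso_snd_fromNormalization s q
    let f₀ : pullback s q ⟶ U := pullback.snd s q ≫ q
    obtain ⟨d1, hd1⟩ := exists_iso_of_comp (pullback.snd s q) q f₀ rfl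
    let c : Y₀.left ⟶ pullback g U.ι := pullback.lift (𝟙 _) (q₀ ≫ s) (by
      rw [Category.id_comp, Category.assoc, hs])
    have hc1 : c ≫ pullback.fst g U.ι = 𝟙 _ := pullback.lift_fst _ _ _
    have hc2 : c ≫ pullback.snd g U.ι = q₀ ≫ s := pullback.lift_snd _ _ _
    have hcs : pullback.fst g U.ι ≫ q₀ ≫ s = pullback.snd g U.ι := by
      rw [← cancel_mono U.ι, Category.assoc, Category.assoc, hs, ← pullback.condition]
    have hc3 : pullback.fst g U.ι ≫ c = 𝟙 _ := by
      apply pullback.hom_ext
      · rw [Category.assoc, hc1, Category.comp_id, Category.id_comp]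
      · rw [Category.assoc, hc2, hcs, Category.id_comp]
    let β : pullback q s ≅ Y₀.left :=
      (MorphismProperty.Over.forget _ _ _ ⋙ Over.forget _).mapIso e
    have hβ : β.hom ≫ q₀ = pullback.snd q s := Over.w e.hom.hom
    have hβ' : β.inv ≫ pullback.snd q s = q₀ := by rw [Iso.inv_comp_eq, hβ]
    let E : pullback g U.ι ≅ pullback s q :=
      ⟨pullback.fst g U.ι, c, hc3, hc1⟩ ≪≫ β.symm ≪≫ pullbackSymmetry q s
    have hE : pullback.snd g U.ι = E.hom ≫ f₀ := by
      have h2 : E.hom ≫ pullback.fst s q = pullback.fst g U.ι ≫ q₀ := by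
        simp only [E, Iso.trans_hom, Iso.symm_hom, Category.assoc, pullbackSymmetry_hom_comp_fst, hβ']
      change _ = E.hom ≫ pullback.snd s q ≫ q
      rw [← pullback.condition, ← Category.assoc, h2, Category.assoc, hcs]
    obtain ⟨d2, hd2⟩ := exists_iso_of_iso E f₀ (pullback.snd g U.ι) hE
    refine ⟨(asIso (g.normalizationPullback U.ι)).symm ≪≫ d2 ≪≫ d1, ?_⟩
    rw [Iso.trans_hom, Iso.trans_hom, Category.assoc, Category.assoc, Iso.symm_hom, asIso_inv, IsIso.inv_comp_eq,
      Scheme.Hom.normalizationPullback_snd, ← hd2]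
    congr 1
  have hprop : FEt.prop ν := by
    have h1 : ∀ x : Z, ∃ U : Z.Opens, x ∈ U ∧ FEt.prop (ν ∣_ U) := by
      intro x
      obtain ⟨U, hx, s, hs, YU, ⟨e⟩⟩ := h x
      obtain ⟨d, hd⟩ := key U s hs YU e
      refine ⟨U, hx, ?_⟩
      have h2 : FEt.prop (pullback.snd ν U.ι) := by
        rw [← hd]
        exact (MorphismProperty.cancel_left_of_respectsIso FEt.prop d.hom YU.hom).2 YU.prop
      exact (MorphismProperty.cancel_left_of_respectsIso FEt.prop (pullbackRestrictIsoRestrict ν U).inv _).2 h2
    constructor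
    · exact IsZariskiLocalAtTarget.of_forall_exists_morphismRestrict (P := @IsFinite) fun x => by
        obtain ⟨U, hx, h2⟩ := h1 x
        exact ⟨U, hx, h2.1⟩
    · exact IsZariskiLocalAtTarget.of_forall_exists_morphismRestrict (P := @Etale) fun x => by
        obtain ⟨U, hx, h2⟩ := h1 x
        exact ⟨U, hx, h2.2⟩
  let Y : FEt.Cat Z := MorphismProperty.Over.mk ⊤ ν hprop
  obtain ⟨U, hx, s, hs, YU, ⟨e⟩⟩ := h (genericPoint Z)
  obtain ⟨d, hd⟩ := key U s hs YU e
  have e1 : (FEt.restrict U.ι).obj Y ≅ YU := isoMk d hd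
  exact ⟨Y, ⟨(restrictCongr hs.symm).app Y ≪≫ (restrictComp s U.ι).app Y ≪≫ (FEt.restrict s).mapIso e1 ≪≫ e⟩⟩

end K299.ExtCover
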