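import Groth.Agent.Ega4late.H526.SmoothQf
import Groth.Agent.S0353
import Groth.Agent.S18860
import Groth.Agent.PrincBund.K826.PushTors
import Groth.Prelude.Def_FEt
import Mathlib.AlgebraicGeometry.Morphisms.Etale
import Mathlib.AlgebraicGeometry.Morphisms.QuasiFinite

/-!
# Finite group schemes in characteristic zero and torsors under them are finite etale
-/

set_option autoImplicit false
universe u
open CategoryTheory CategoryTheory.Limits MonoidalCategory CartesianMonoidalCategory MonObj GrpObj AlgebraicGeometry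

namespace K299.FinEt

/-- smooth and locally quasi-finite is étale -/
theorem etale_of_smooth_of_lqf {X Y : Scheme.{u}} (f : X ⟶ Y) [Smooth f] [LocallyQuasiFinite f] :
    Etale f := by
  rw [HasRingHomProperty.iff_appLE (P := @Etale)]
  intro U V e
  have h1 : (f.appLE U V e).hom.Smooth := HasRingHomProperty.appLE (P := @Smooth) f ‹_› U V e
  have h2 : (f.appLE U V e).hom.QuasiFinite :=
    HasRingHomProperty.appLE (P := @LocallyQuasiFinite) f ‹_› U V e
  algebraize [(f.appLE U V e).hom]
  change Algebra.Etale _ _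
  rw [← Algebra.etaleLocus_eq_univ_iff_etale, Set.eq_univ_iff_forall]
  intro q
  rw [Algebra.mem_etaleLocus_iff]
  exact Groth.Agent.Ega4late.H526.SmoothQf.isEtaleAt_of_isSmoothAt_of_quasiFiniteAt _ _ q.asIdeal

variable {k : Type u} [Field k] [CharZero k]

theorem etale_hom (S : Over (Spec (CommRingCat.of k))) [GrpObj S] [IsFinite S.hom] : Etale S.hom := by
  have : Smooth S.hom := Groth.Agent.S0353.result k S
  exact etale_of_smooth_of_lqf S.hom

variable {X : Scheme.{u}} (z : X ⟶ Spec (CommRingCat.of k)) (S : Over (Spec (CommRingCat.of k))) [GrpObj S] [IsFinite S.hom]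

include z S in
theorem isFinite_bc : IsFinite (Red.bc z S).hom :=
  inferInstanceAs (IsFinite (pullback.snd S.hom z))

theorem etale_bc : Etale (Red.bc z S).hom := by
  have := etale_hom S
  exact inferInstanceAs (Etale (pullback.snd S.hom z))

theorem torsor_isFinite (Q : NonAbH1.TorsorSch (Red.bc z S) Scheme.etalePrecoverage) : IsFinite Q.X.hom := by
  have h1 := Groth.Agent.S18860.result Q.act
    ⟨Q.isTorsor.1, by
      obtain ⟨R, hR, h⟩ := Q.isTorsor.2
      exact ⟨R, K826.Descend.etale_le_fpqc _ hR, h⟩⟩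
  exact h1.2.2.1 (isFinite_bc z S)

theorem torsor_etale (Q : NonAbH1.TorsorSch (Red.bc z S) Scheme.etalePrecoverage) : Etale Q.X.hom := by
  have h1 := Groth.Agent.S18860.result Q.act
    ⟨Q.isTorsor.1, by
      obtain ⟨R, hR, h⟩ := Q.isTorsor.2
      exact ⟨R, K826.Descend.etale_le_fpqc _ hR, h⟩⟩
  exact h1.2.2.2.2 (etale_bc z S)

end K299.FinEt
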