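import Groth.Agent.S1964
import Mathlib.RingTheory.Valuation.LocalSubring
import Mathlib.RingTheory.Valuation.ValuationSubring

/-!
# Valuation subrings dominating a henselian valuation ring

`R` a henselian valuation ring with fraction field `F`, `Ω / F` algebraic.
* `mem_iff`: a valuation subring of `Ω` dominating `R` is the set of elements integral over `R`.
-/

set_option autoImplicit false
universe u

namespace K299.HensVal

open IsLocalRing Polynomial

variable {R F Ω : Type u} [CommRing R] [Field Ω] [Algebra R Ω]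

/-- An element of a field is integral over `R` if it belongs to all the valuation subrings containing `R`. -/
theorem isIntegral_of_forall (x : Ω)
    (h : ∀ V : ValuationSubring Ω, (∀ r : R, algebraMap R Ω r ∈ V) → x ∈ V) : IsIntegral R x := by
  by_contra hx
  let C : Subring Ω := (integralClosure R Ω).toSubring
  have hC : IsIntegrallyClosedIn C Ω :=
    inferInstanceAs (IsIntegrallyClosedIn (integralClosure R Ω) Ω)
  obtain ⟨V, hV, hxV⟩ := Subring.exists_le_valuationSubring_of_isIntegrallyClosedIn (R := C) (x := x)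
    (fun h => hx h)
  exact hxV (h V fun r => hV (isIntegral_algebraMap (R := R) (A := Ω) (x := r)))

theorem horner (c : ℕ → R) (a : Ω) (j m : ℕ)
    (h : ∑ i ∈ Finset.range (j + m), algebraMap R Ω (c i) * a ^ i = 0) :
    IsIntegral R (∑ i ∈ Finset.range m, algebraMap R Ω (c (j + i)) * a ^ i) ∧
      IsIntegral R ((∑ i ∈ Finset.range m, algebraMap R Ω (c (j + i)) * a ^ i) * a) := by
  rcases eq_or_ne a 0 with rfl | ha
  · rw [mul_zero]
    refine ⟨?_, isIntegral_zero⟩
    refine IsIntegral.sum _ fun i _ => ?_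
    exact isIntegral_algebraMap.mul (isIntegral_zero.pow _)
  set u := ∑ i ∈ Finset.range m, algebraMap R Ω (c (j + i)) * a ^ i with hu
  have hsplit : ∑ i ∈ Finset.range j, algebraMap R Ω (c i) * a ^ i + a ^ j * u = 0 := by
    rw [← h, Finset.sum_range_add, hu, Finset.mul_sum]
    congr 1
    exact Finset.sum_congr rfl fun i _ => by rw [pow_add]; ring
  have hsplit' : u = - ∑ i ∈ Finset.range j, algebraMap R Ω (c i) * a⁻¹ ^ (j - i) := by
    have h1 : u = - (a ^ j)⁻¹ * ∑ i ∈ Finset.range j, algebraMap R Ω (c i) * a ^ i := by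
      have h2 : a ^ j ≠ 0 := pow_ne_zero _ ha
      field_simp
      linear_combination hsplit
    rw [h1, neg_mul, Finset.mul_sum]
    congr 1
    refine Finset.sum_congr rfl fun i hi => ?_
    have hi' := (Finset.mem_range.1 hi).le
    obtain ⟨d, rfl⟩ := Nat.exists_eq_add_of_le hi'
    have h2 : a ^ i ≠ 0 := pow_ne_zero _ ha
    have h3 : a ^ d ≠ 0 := pow_ne_zero _ ha
    rw [Nat.add_sub_cancel_left, pow_add, inv_pow]
    field_simp
  constructor
  · refine isIntegral_of_forall _ fun V hV => ?_
    rcases V.mem_or_inv_mem a with hmem | hmem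
    · exact sum_mem fun i _ => mul_mem (hV _) (pow_mem hmem _)
    · rw [hsplit']
      exact neg_mem (sum_mem fun i _ => mul_mem (hV _) (pow_mem hmem _))
  · refine isIntegral_of_forall _ fun V hV => ?_
    rcases V.mem_or_inv_mem a with hmem | hmem
    · exact mul_mem (sum_mem fun i _ => mul_mem (hV _) (pow_mem hmem _)) hmem
    · rw [hsplit', neg_mul, Finset.sum_mul]
      refine neg_mem (sum_mem fun i hi => ?_)
      have hi' := Finset.mem_range.1 hi
      obtain ⟨d, hd⟩ := Nat.exists_eq_add_of_lt hi'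
      have h4 : a⁻¹ ^ (j - i) * a = a⁻¹ ^ (j - i - 1) := by
        have : j - i = (j - i - 1) + 1 := by omega
        rw [this, pow_succ, mul_assoc, inv_mul_cancel₀ ha, mul_one]
        rfl
      rw [mul_assoc, h4]
      exact mul_mem (hV _) (pow_mem hmem _)

section dom

variable (V : ValuationSubring Ω) (hV1 : ∀ r : R, algebraMap R Ω r ∈ V)

include hV1 in
theorem mem_of_isIntegral {b : Ω} (hb : IsIntegral R b) : b ∈ V := by
  obtain ⟨f, hf, hfb⟩ := hb
  have h1 : IsIntegral V b := by
    refine ⟨f.map ((algebraMap R Ω).codRestrict V.toSubring hV1), hf.map _, ?_⟩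
    rw [Polynomial.eval₂_map]
    exact hfb
  obtain ⟨y, hy⟩ := IsIntegrallyClosed.isIntegral_iff.1 h1
  rw [← hy]
  exact y.2

include hV1 in
theorem valuation_unit {r : R} (hr : IsUnit r) : V.valuation (algebraMap R Ω r) = 1 := by
  obtain ⟨s, hs⟩ := hr.exists_right_inv
  have h1 : V.valuation (algebraMap R Ω r) * V.valuation (algebraMap R Ω s) = 1 := by
    rw [← map_mul, ← map_mul, hs, map_one, map_one]
  have h2 := (V.valuation_le_one_iff _).2 (hV1 r)
  have h3 := (V.valuation_le_one_iff _).2 (hV1 s)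
  refine le_antisymm h2 ?_
  rw [← h1]
  exact mul_le_of_le_one_right' h3

include hV1 in
/-- A root in `V` of a polynomial over `R` with a unit coefficient is integral over `R`. -/
theorem isIntegral_of_root [HenselianLocalRing R]
    (hV2 : ∀ r ∈ maximalIdeal R, V.valuation (algebraMap R Ω r) < 1) (c : ℕ → R) (n j : ℕ) (hj : j < n)
    (hcj : IsUnit (c j)) (hc : ∀ i, j < i → c i ∈ maximalIdeal R) (a : Ω) (ha : a ∈ V)
    (h : ∑ i ∈ Finset.range n, algebraMap R Ω (c i) * a ^ i = 0) : IsIntegral R a := by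
  obtain ⟨m, rfl⟩ := Nat.exists_eq_add_of_lt hj
  rw [add_assoc] at h
  obtain ⟨h1, h2⟩ := horner c a j (m + 1) h
  set u := ∑ i ∈ Finset.range (m + 1), algebraMap R Ω (c (j + i)) * a ^ i with hu
  have hval : V.valuation u = 1 := by
    rw [hu, Finset.sum_range_succ', pow_zero, mul_one, add_zero, Valuation.map_add_eq_of_lt_right]
    · exact valuation_unit V hV1 hcj
    · rw [valuation_unit V hV1 hcj]
      refine Valuation.map_sum_lt _ one_ne_zero fun i _ => ?_
      rw [map_mul]
      have h3 : V.valuation (a ^ (i + 1)) ≤ 1 := (V.valuation_le_one_iff _).2 (pow_mem ha _)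
      exact (mul_le_of_le_one_right' h3).trans_lt (hV2 _ (hc _ (by omega)))
  let u' : integralClosure R Ω := ⟨u, h1⟩
  rcases Groth.Agent.S1964.isUnit_or_pow_mem R (integralClosure R Ω) u' with hunit | ⟨d, hd⟩
  · obtain ⟨w, hw⟩ := hunit.exists_right_inv
    have hw' : u * (w : Ω) = 1 := congrArg Subtype.val hw
    have h5 : a = (u * a) * (w : Ω) := by
      rw [mul_right_comm, hw', one_mul]
    rw [h5]
    exact h2.mul w.2
  · exfalso
    have key : ∀ x ∈ (maximalIdeal R).map (algebraMap R (integralClosure R Ω)),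
        V.valuation (x : Ω) < 1 := by
      intro x hx
      refine Submodule.span_induction (p := fun (x : integralClosure R Ω) _ => V.valuation (x : Ω) < 1)
        ?_ ?_ ?_ ?_ hx
      · rintro _ ⟨r, hr, rfl⟩
        exact hV2 r hr
      · show V.valuation ((0 : integralClosure R Ω) : Ω) < 1
        simp
      · intro x y _ _ h1 h2
        exact (V.valuation.map_add _ _).trans_lt (max_lt h1 h2)
      · intro r x _ h1
        show V.valuation ((r : Ω) * (x : Ω)) < 1
        rw [map_mul]
        have h2 : V.valuation (r : Ω) ≤ 1 := (V.valuation_le_one_iff _).2 (mem_of_isIntegral V hV1 r.2)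
        exact (mul_le_of_le_one_left' h2).trans_lt h1
    have h6 := key _ hd
    have h7 : V.valuation (((u' ^ d : integralClosure R Ω)) : Ω) = 1 := by
      have : ((u' ^ d : integralClosure R Ω) : Ω) = u ^ d := rfl
      rw [this, map_pow, hval, one_pow]
    rw [h7] at h6
    exact lt_irrefl _ h6

end dom

section

variable [IsDomain R] [ValuationRing R] [HenselianLocalRing R] [Field F] [Algebra R F] [IsFractionRing R F]
  [Algebra F Ω] [IsScalarTower R F Ω]

variable (R) in
/-- Every nonzero polynomial over the fraction field of a valuation ring is, up to scalar, a polynomial over the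
ring with a unit coefficient beyond which all coefficients are in the maximal ideal. -/
theorem exists_primitive (f : F[X]) (hf : f ≠ 0) :
    ∃ (e : F) (c : ℕ → R) (n j : ℕ), e ≠ 0 ∧ j < n ∧ IsUnit (c j) ∧
    (∀ i, j < i → c i ∈ maximalIdeal R) ∧ (∀ i, algebraMap R F (c i) = e * f.coeff i) ∧ f.natDegree < n := by
  classical
  let v := ValuationRing.valuation R F
  obtain ⟨i₀, hi₀, hmax⟩ := Finset.exists_max_image f.support (fun i => v (f.coeff i))
    (Polynomial.support_nonempty.2 hf)
  have h0 : f.coeff i₀ ≠ 0 := Polynomial.mem_support_iff.1 hi₀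
  have hle : ∀ i, v (f.coeff i) ≤ v (f.coeff i₀) := by
    intro i
    by_cases h : f.coeff i = 0
    · rw [h, map_zero]; exact zero_le
    · exact hmax i (Polynomial.mem_support_iff.2 h)
  have hex : ∀ i, ∃ r : R, algebraMap R F r = (f.coeff i₀)⁻¹ * f.coeff i := by
    intro i
    rw [← ValuationRing.mem_integer_iff]
    change v _ ≤ 1
    rw [map_mul, map_inv₀]
    have h1 : v (f.coeff i₀) ≠ 0 := (Valuation.ne_zero_iff _).2 h0
    rw [inv_mul_le_iff₀ (zero_lt_iff.2 h1), mul_one]
    exact hle i
  choose c hc using hex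
  have hinj := IsFractionRing.injective R F
  have hc0 : c i₀ = 1 := hinj (by rw [hc, inv_mul_cancel₀ h0, map_one])
  let s := (Finset.range (f.natDegree + 1)).filter fun i => IsUnit (c i)
  have hs0 : i₀ ∈ s := by
    refine Finset.mem_filter.2 ⟨Finset.mem_range.2 (Nat.lt_succ_of_le (Polynomial.le_natDegree_of_ne_zero h0)), ?_⟩
    rw [hc0]; exact isUnit_one
  have hs : s.Nonempty := ⟨i₀, hs0⟩
  refine ⟨(f.coeff i₀)⁻¹, c, f.natDegree + 1, s.max' hs, inv_ne_zero h0, ?_, ?_, ?_, hc, Nat.lt_succ_self _⟩
  · exact Finset.mem_range.1 (Finset.mem_filter.1 (s.max'_mem hs)).1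
  · exact (Finset.mem_filter.1 (s.max'_mem hs)).2
  · intro i hi
    rw [mem_maximalIdeal, mem_nonunits_iff]
    intro hu
    by_cases hi' : i < f.natDegree + 1
    · exact absurd (s.le_max' i (Finset.mem_filter.2 ⟨Finset.mem_range.2 hi', hu⟩)) (not_le.2 hi)
    · have h2 : f.coeff i = 0 := Polynomial.coeff_eq_zero_of_natDegree_lt (by omega)
      have : c i = 0 := hinj (by rw [hc, h2, mul_zero, map_zero])
      rw [this] at hu
      exact not_isUnit_zero hu

variable (V : ValuationSubring Ω) (hV1 : ∀ r : R, algebraMap R Ω r ∈ V)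
  (hV2 : ∀ r ∈ maximalIdeal R, V.valuation (algebraMap R Ω r) < 1)

variable (F) in
include hV1 hV2 in
theorem mem_iff [Algebra.IsAlgebraic F Ω] (a : Ω) : a ∈ V ↔ IsIntegral R a := by
  refine ⟨fun ha => ?_, mem_of_isIntegral V hV1⟩
  obtain ⟨f, hf, hfa⟩ := Algebra.IsAlgebraic.isAlgebraic (R := F) a
  obtain ⟨e, c, n, j, he, hj, hcj, hc, hce, hn⟩ := exists_primitive R f hf
  refine isIntegral_of_root V hV1 hV2 c n j hj hcj hc a ha ?_
  rw [Polynomial.aeval_eq_sum_range' hn] at hfa
  have : ∀ i, algebraMap R Ω (c i) * a ^ i = algebraMap F Ω e * (f.coeff i • a ^ i) := by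
    intro i
    rw [IsScalarTower.algebraMap_apply R F Ω, hce, map_mul, Algebra.smul_def]
    ring
  simp_rw [this]
  rw [← Finset.mul_sum, hfa, mul_zero]

end

end K299.HensVal
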