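import Mathlib.FieldTheory.SplittingField.Construction
import Mathlib.FieldTheory.Galois.Basic
import Mathlib.FieldTheory.IsAlgClosed.Basic

/-!
# The abelian extension generated by `N`-th roots of finitely many elements
-/

set_option autoImplicit false
universe u

namespace K299.KummerExt

open Polynomial

variable (k K : Type u) [Field k] [IsAlgClosed k] [CharZero k] [Field K] [Algebra k K]

omit [CharZero k] in
theorem exists_root_of_unity {L : Type u} [Field L] [Algebra k L] (N : ℕ) (hN : N ≠ 0) (z : L) (hz : z ^ N = 1) :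
    ∃ ζ : k, algebraMap k L ζ = z := by
  have hp : (X ^ N - 1 : k[X]) ≠ 0 := (monic_X_pow_sub_C (1 : k) hN).ne_zero
  have h : z ∈ (algebraMap k L).range :=
    (IsAlgClosed.splits (X ^ N - 1 : k[X])).mem_range_of_isRoot hp (by simp [hz])
  obtain ⟨ζ, hζ⟩ := h
  exact ⟨ζ, hζ⟩

include k in
theorem exists_kummer (S : Finset K) (N : ℕ) (hN : N ≠ 0) :
    ∃ (L : Type u) (_ : Field L) (_ : Algebra K L) (_ : FiniteDimensional K L) (_ : IsGalois K L),
      (∀ σ τ : L ≃ₐ[K] L, σ * τ = τ * σ) ∧ ∀ s ∈ S, ∃ r : L, r ^ N = algebraMap K L s := by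
  classical
  have hchar : CharZero K := charZero_of_injective_algebraMap (algebraMap k K).injective
  let p : K[X] := ∏ s ∈ S, (X ^ N - C s)
  have hmon : ∀ s : K, (X ^ N - C s : K[X]).Monic := fun s => monic_X_pow_sub_C s hN
  have hp : p ≠ 0 := Finset.prod_ne_zero_iff.2 fun s _ => (hmon s).ne_zero
  let L := p.SplittingField
  refine ⟨L, inferInstance, inferInstance, inferInstance, { }, ?_, ?_⟩
  · intro σ τ
    have hgen : ∀ z ∈ p.rootSet L, σ (τ z) = τ (σ z) := by
      intro z hz
      rw [mem_rootSet] at hz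
      obtain ⟨s, hs, h0⟩ : ∃ s ∈ S, aeval z (X ^ N - C s : K[X]) = 0 := by
        have := hz.2
        rw [map_prod, Finset.prod_eq_zero_iff] at this
        exact this
      have hzN : z ^ N = algebraMap K L s := by
        simpa [sub_eq_zero] using h0
      rcases eq_or_ne z 0 with rfl | hz0
      · simp
      have key : ∀ ρ : L ≃ₐ[K] L, ∃ ζ : k, ρ z = algebraMap K L (algebraMap k K ζ) * z := by
        intro ρ
        obtain ⟨ζ, hζ⟩ := exists_root_of_unity k N hN (ρ z / z) (by
          rw [div_pow, ← map_pow, hzN, ρ.commutes]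
          exact div_self (by rw [← hzN]; exact pow_ne_zero _ hz0))
        refine ⟨ζ, ?_⟩
        rw [← IsScalarTower.algebraMap_apply, hζ, div_mul_cancel₀ _ hz0]
      obtain ⟨a, ha⟩ := key σ
      obtain ⟨b, hb⟩ := key τ
      rw [hb, ha, map_mul, map_mul, σ.commutes, τ.commutes, ha, hb]
      ring
    have h1 : (σ * τ).toAlgHom = (τ * σ).toAlgHom := by
      apply AlgHom.ext_of_adjoin_eq_top (SplittingField.adjoin_rootSet p)
      intro z hz
      exact hgen z hz
    exact AlgEquiv.ext fun z => DFunLike.congr_fun h1 z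
  · intro s hs
    have hsp : ((X ^ N - C s : K[X]).map (algebraMap K L)).Splits := by
      refine Splits.of_dvd (SplittingField.splits p) ((Polynomial.map_ne_zero_iff (algebraMap K L).injective).2 hp) ?_
      exact (mapRingHom _).map_dvd (Finset.dvd_prod_of_mem _ hs)
    obtain ⟨r, hr⟩ := hsp.exists_eval_eq_zero (by
      rw [degree_map, degree_X_pow_sub_C (Nat.pos_of_ne_zero hN)]
      exact_mod_cast hN)
    refine ⟨r, ?_⟩
    simpa [sub_eq_zero] using hr

end K299.KummerExt
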