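import Groth.Agent.VarietyB.ProjGlue
import Groth.Prelude.Def_CohB1
import Mathlib.AlgebraicGeometry.Stalk

/-!
# The point of projective space with given homogeneous coordinates in a field

* `pt t ht : Spec L ⟶ P^n_k` for nonzero `t 0, …, t n` in `L ⊇ k`.
* `ratio_mem`: if `pt t` factors through `j : Spec L ⟶ Z`, then for every point `z` of `Z` through the local ring of which
  `j` factors, all the ratios `t l / t i`, for some `i`, come from that local ring.
-/

set_option autoImplicit false
universe u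

open CategoryTheory AlgebraicGeometry HomogeneousLocalization

namespace K299.PnPoint

open Groth.Agent.VarietyB.ProjHom Groth.Agent.VarietyB.ProjGlue

variable {k L : Type u} [Field k] [Field L] [Algebra k L] {n : ℕ} (t : Fin (n + 1) → L) (ht : ∀ i, t i ≠ 0)

/-- evaluation at `t` -/
noncomputable def ev : MvPolynomial (Fin (n + 1)) k →+* L := (MvPolynomial.aeval t).toRingHom

include ht in
theorem isUnit_ev (i : Fin (n + 1)) : IsUnit (ev (k := k) t (MvPolynomial.X i)) := by
  have : ev (k := k) t (MvPolynomial.X i) = t i := MvPolynomial.aeval_X t i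
  rw [this]
  exact (ht i).isUnit

theorem X_mem (i : Fin (n + 1)) : (MvPolynomial.X i : MvPolynomial (Fin (n + 1)) k) ∈ CohB1.polyGrading n k 1 :=
  MvPolynomial.isHomogeneous_X k i

/-- the point through the chart `i` -/
noncomputable def pti (i : Fin (n + 1)) : Spec (CommRingCat.of L) ⟶ Proj (CohB1.polyGrading n k) :=
  Spec.map (CommRingCat.ofHom (awayLift (CohB1.polyGrading n k) (ev t) (MvPolynomial.X i) (isUnit_ev t ht i))) ≫
    Proj.awayι (CohB1.polyGrading n k) (MvPolynomial.X i) (X_mem i) Nat.one_pos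

theorem pti_eq (i l : Fin (n + 1)) : pti (k := k) t ht i = pti t ht l := by
  have key : ∀ i, pti (k := k) t ht i = toProj (X := Spec (CommRingCat.of L)) (CohB1.polyGrading n k)
      ((Scheme.ΓSpecIso (CommRingCat.of L)).inv.hom.comp (ev t)) (X_mem i) Nat.one_pos
      ((isUnit_ev t ht i).map (Scheme.ΓSpecIso (CommRingCat.of L)).inv.hom) := by
    intro i
    rw [toProj, ← awayLift_comp (CohB1.polyGrading n k) (ev t) (isUnit_ev t ht i) (X_mem i), pti]
    have h1 : CommRingCat.ofHom ((Scheme.ΓSpecIso (CommRingCat.of L)).inv.hom.comp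
        (awayLift (CohB1.polyGrading n k) (ev t) (MvPolynomial.X i) (isUnit_ev t ht i))) =
        CommRingCat.ofHom (awayLift (CohB1.polyGrading n k) (ev t) (MvPolynomial.X i) (isUnit_ev t ht i)) ≫
          (Scheme.ΓSpecIso (CommRingCat.of L)).inv := rfl
    rw [h1, Spec.map_comp, Category.assoc, toSpecΓ_SpecMap_ΓSpecIso_inv_assoc]
  rw [key, key]
  exact toProj_indep _ _ _ _ _ _ _ _

/-- the point of projective space with homogeneous coordinates `t` -/
noncomputable def pt : Spec (CommRingCat.of L) ⟶ Proj (CohB1.polyGrading n k) := pti t ht 0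

theorem pt_toSpec : pt t ht ≫ Proj.toSpecZero (CohB1.polyGrading n k) ≫
    Spec.map (CommRingCat.ofHom (algebraMap k (CohB1.polyGrading n k 0))) =
      Spec.map (CommRingCat.ofHom (algebraMap k L)) := by
  rw [pt, pti, Category.assoc, Proj.awayι_toSpecZero_assoc, ← Spec.map_comp, ← Spec.map_comp,
    ← CommRingCat.ofHom_comp, ← CommRingCat.ofHom_comp]
  congr 2
  ext r
  simp only [RingHom.comp_apply]
  have h1 := awayLift_mk (CohB1.polyGrading n k) (ev t) (isUnit_ev t ht 0) (X_mem 0) 0 (MvPolynomial.C r)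
    (by simp)
  rw [pow_zero, mul_one] at h1
  have h2 : ev (k := k) t (MvPolynomial.C r) = algebraMap k L r := MvPolynomial.aeval_C t r
  rw [← h2, ← h1]
  congr 1

theorem awayLift_ratio (i l : Fin (n + 1)) :
    awayLift (CohB1.polyGrading n k) (ev t) (MvPolynomial.X i) (isUnit_ev t ht i)
      (Away.mk (CohB1.polyGrading n k) (X_mem i) 1 (MvPolynomial.X l) (by simpa using X_mem l)) = t l / t i := by
  have h1 := awayLift_mk (CohB1.polyGrading n k) (ev t) (isUnit_ev t ht i) (X_mem i) 1 (MvPolynomial.X l)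
    (by simpa using X_mem l)
  have h2 : ∀ i, ev (k := k) t (MvPolynomial.X i) = t i := fun i => MvPolynomial.aeval_X t i
  rw [h2, h2, pow_one] at h1
  rw [← h1, mul_div_cancel_right₀ _ (ht i)]

/-- Ratios of coordinates in the local rings. -/
theorem ratio_mem {Z : Scheme.{u}} (j : Spec (CommRingCat.of L) ⟶ Z) (h : Z ⟶ Proj (CohB1.polyGrading n k))
    (hj : j ≫ h = pt t ht) (z : Z) (φ : Z.presheaf.stalk z ⟶ CommRingCat.of L)
    (hφ : Spec.map φ ≫ Z.fromSpecStalk z = j) : ∃ i, ∀ l, t l / t i ∈ φ.hom.range := by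
  have hcov : h z ∈ (⨆ i : Fin (n + 1), Proj.basicOpen (CohB1.polyGrading n k) (MvPolynomial.X i)) := by
    rw [CoordData.iSup_basicOpen_X]; trivial
  obtain ⟨i, hi⟩ := TopologicalSpace.Opens.mem_iSup.1 hcov
  refine ⟨i, fun l => ?_⟩
  let ι := Proj.awayι (CohB1.polyGrading n k) (MvPolynomial.X i) (X_mem i) Nat.one_pos
  have hrange : Set.range (Z.fromSpecStalk z ≫ h) ⊆ Set.range ι := by
    rintro _ ⟨y, rfl⟩
    have h1 : Set.range ι = (Proj.basicOpen (CohB1.polyGrading n k) (MvPolynomial.X i) : Set _) := by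
      rw [← Proj.opensRange_awayι (CohB1.polyGrading n k) (MvPolynomial.X i) (X_mem i) Nat.one_pos]
      rfl
    rw [h1]
    have h2 : Z.fromSpecStalk z y ⤳ z := by
      have : Z.fromSpecStalk z y ∈ Set.range (Z.fromSpecStalk z) := ⟨y, rfl⟩
      rw [Scheme.range_fromSpecStalk] at this
      exact this
    have h3 : h (Z.fromSpecStalk z y) ⤳ h z := h2.map h.continuous
    rw [Scheme.Hom.comp_apply]
    exact h3.mem_open (Proj.basicOpen (CohB1.polyGrading n k) (MvPolynomial.X i)).2 hi
  let r : Spec (Z.presheaf.stalk z) ⟶ Spec (CommRingCat.of (Away (CohB1.polyGrading n k) (MvPolynomial.X i))) :=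
    IsOpenImmersion.lift ι (Z.fromSpecStalk z ≫ h) hrange
  have hr : r ≫ ι = Z.fromSpecStalk z ≫ h := IsOpenImmersion.lift_fac _ _ _
  have h4 : Spec.map φ ≫ r = Spec.map (CommRingCat.ofHom
      (awayLift (CohB1.polyGrading n k) (ev t) (MvPolynomial.X i) (isUnit_ev t ht i))) := by
    rw [← cancel_mono ι, Category.assoc, hr, ← Category.assoc, hφ, hj, pt, pti_eq t ht 0 i]
    rfl
  have h5 : Spec.preimage r ≫ φ = CommRingCat.ofHom
      (awayLift (CohB1.polyGrading n k) (ev t) (MvPolynomial.X i) (isUnit_ev t ht i)) := by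
    apply Spec.map_injective
    rw [Spec.map_comp, Spec.map_preimage, h4]
  rw [← awayLift_ratio (k := k) t ht i l]
  have h6 := congrArg (fun f => f.hom (Away.mk (CohB1.polyGrading n k) (X_mem i) 1 (MvPolynomial.X l)
    (by simpa using X_mem l))) h5
  exact ⟨_, h6⟩

end K299.PnPoint
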