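import Mathlib.RingTheory.Etale.Field
import Mathlib.FieldTheory.SplittingField.Construction
import Mathlib.FieldTheory.Galois.Basic
import Mathlib.RingTheory.TensorProduct.Pi
import Mathlib.RingTheory.Etale.Basic

/-!
# A finite étale algebra over a field of characteristic zero splits over a finite Galois extension
-/

set_option autoImplicit false
universe u

namespace K299.SplitExt

open Polynomial TensorProduct

variable (K B : Type u) [Field K] [CommRing B] [Algebra K B]

theorem exists_equiv_pi_of_splits (M : Type u) [Field M] [Algebra K M] [Algebra.Etale K B] [Module.Finite K B]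
    {κ : Type*} [Finite κ] (bas : Module.Basis κ K B)
    (h : ∀ i, ((minpoly K (bas i)).map (algebraMap K M)).Splits) :
    ∃ (ι : Type u) (_ : Finite ι), Nonempty (M ⊗[K] B ≃ₐ[M] (ι → M)) := by
  classical
  obtain ⟨I, hI, A, _, _, e, he⟩ := (Algebra.Etale.iff_exists_algEquiv_prod M (M ⊗[K] B)).1 inferInstance
  have hsurj : ∀ i, Function.Surjective (algebraMap M (A i)) := by
    intro i
    let g : M ⊗[K] B →ₐ[M] A i := (Pi.evalAlgHom M A i).comp e.toAlgHom
    have hg : Function.Surjective g := (Function.surjective_eval i).comp e.surjective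
    have hb : ∀ l, g (1 ⊗ₜ bas l) ∈ (algebraMap M (A i)).range := by
      intro l
      have h1 : aeval (g (1 ⊗ₜ bas l)) ((minpoly K (bas l)).map (algebraMap K M)) = 0 := by
        rw [aeval_algHom_apply, aeval_map_algebraMap]
        have : aeval (1 ⊗ₜ[K] bas l : M ⊗[K] B) (minpoly K (bas l)) =
            Algebra.TensorProduct.includeRight (R := K) (A := M) (aeval (bas l) (minpoly K (bas l))) := by
          rw [← aeval_algHom_apply]; rfl
        rw [this, minpoly.aeval, map_zero, map_zero]
      have hint : IsIntegral K (bas l) := Algebra.IsIntegral.isIntegral _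
      have h2 : ((minpoly K (bas l)).map (algebraMap K M)).map (algebraMap M (A i)) ≠ 0 :=
        (((minpoly.monic hint).map _).map _).ne_zero
      exact (h l).mem_range_of_isRoot (((minpoly.monic hint).map _).ne_zero) (by rwa [IsRoot.def, eval_map_algebraMap])
    intro y
    obtain ⟨x, rfl⟩ := hg y
    suffices H : ∀ x, g x ∈ (algebraMap M (A i)).range from H x
    intro x
    induction x using TensorProduct.induction_on with
    | zero => rw [map_zero]; exact Subring.zero_mem _
    | tmul m b =>
      have hm : (m ⊗ₜ[K] b : M ⊗[K] B) = m • (1 ⊗ₜ b) := by rw [smul_tmul', smul_eq_mul, mul_one]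
      rw [hm, map_smul, Algebra.smul_def]
      refine Subring.mul_mem _ ⟨m, rfl⟩ ?_
      rw [← bas.linearCombination_repr b, Finsupp.linearCombination_apply, Finsupp.sum, tmul_sum, map_sum]
      refine Subring.sum_mem _ fun l _ => ?_
      have h3 : (1 ⊗ₜ[K] (bas.repr b l • bas l) : M ⊗[K] B) = algebraMap K M (bas.repr b l) • (1 ⊗ₜ bas l) := by
        rw [smul_tmul', smul_eq_mul, mul_one, tmul_smul, smul_tmul', Algebra.smul_def, mul_one]
      rw [h3, map_smul, Algebra.smul_def]
      exact Subring.mul_mem _ ⟨_, rfl⟩ (hb l)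
    | add x y hx hy =>
      rw [map_add]; exact Subring.add_mem _ hx hy
  have hbij : ∀ i, Function.Bijective (Algebra.ofId M (A i)) := fun i =>
    ⟨(algebraMap M (A i)).injective, hsurj i⟩
  exact ⟨I, hI, ⟨e.trans (AlgEquiv.piCongrRight fun i => (AlgEquiv.ofBijective _ (hbij i)).symm)⟩⟩

theorem exists_split [CharZero K] [Algebra.Etale K B] [Module.Finite K B] :
    ∃ (M : Type u) (_ : Field M) (_ : Algebra K M) (_ : FiniteDimensional K M) (_ : IsGalois K M) (ι : Type u)
      (_ : Finite ι), Nonempty (M ⊗[K] B ≃ₐ[M] (ι → M)) := by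
  classical
  let bas := Module.finBasis K B
  let p : K[X] := ∏ l, minpoly K (bas l)
  have hp : p ≠ 0 := Finset.prod_ne_zero_iff.2 fun l _ => minpoly.ne_zero (Algebra.IsIntegral.isIntegral _)
  have hsp : (p.map (algebraMap K p.SplittingField)).Splits := SplittingField.splits p
  obtain ⟨ι, hι, e⟩ := exists_equiv_pi_of_splits K B p.SplittingField bas (fun l => by
    refine Splits.of_dvd hsp ((Polynomial.map_ne_zero_iff (algebraMap K p.SplittingField).injective).2 hp) ?_
    exact (mapRingHom _).map_dvd (Finset.dvd_prod_of_mem _ (Finset.mem_univ l)))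
  exact ⟨p.SplittingField, inferInstance, inferInstance, inferInstance, { }, ι, hι, e⟩

/-- A splitting over `M` gives a splitting over every `F ⊇ M`. -/
theorem split_of_algHom {M F : Type u} [Field M] [Algebra K M] [Field F] [Algebra K F] (f : M →ₐ[K] F) {ι : Type*}
    [Finite ι] (e : M ⊗[K] B ≃ₐ[M] (ι → M)) : Nonempty (F ⊗[K] B ≃ₐ[F] (ι → F)) := by
  classical
  have := Fintype.ofFinite ι
  let _ : Algebra M F := f.toRingHom.toAlgebra
  have _ : IsScalarTower K M F := IsScalarTower.of_algebraMap_eq fun a => (f.commutes a).symm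
  exact ⟨(Algebra.TensorProduct.cancelBaseChange K M F F B).symm.trans
    ((Algebra.TensorProduct.congr AlgEquiv.refl e).trans
      ((Algebra.TensorProduct.piRight M F F (fun _ : ι => M)).trans
        (AlgEquiv.piCongrRight fun _ => Algebra.TensorProduct.rid M F F)))⟩

end K299.SplitExt
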