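import Groth.Agent.NonAbH1.K299.HensVal
import Mathlib.FieldTheory.Galois.Infinite
import Mathlib.FieldTheory.IsAlgClosed.AlgebraicClosure
import Mathlib.FieldTheory.IsSepClosed

/-!
# Finite Galois extensions trivialised over strictly henselian valued fields of residue characteristic zero

* `exists_eigenvector`: a nontrivial automorphism of finite order has an eigenvector for an eigenvalue `≠ 1`.
* `exists_algHom`: let `M / K` be finite Galois, `k ⊆ K` algebraically closed of characteristic zero, `R ⊇ k` a strictly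
  henselian valuation ring with fraction field `F ⊇ K`.  If `F` contains the `N`-th roots of the ratios of the
  coefficients of the minimal polynomials of eigenvectors of the elements of `Gal(M/K)`, then `M` embeds in `F`.
-/

set_option autoImplicit false
universe u

namespace K299.Tame

open IsLocalRing Polynomial

section eigen

variable {k M : Type u} [Field k] [Field M] [Algebra k M]

theorem exists_root_eigen (T : M →ₗ[k] M) (s : Multiset k) (y : M) (hy : y ≠ 0)
    (h : aeval T (s.map fun a => X - C a).prod y = 0) : ∃ a ∈ s, ∃ z : M, z ≠ 0 ∧ T z = a • z := by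
  induction s using Multiset.induction_on generalizing y with
  | empty => simp at h; exact absurd h hy
  | cons a s ih =>
    rw [Multiset.map_cons, Multiset.prod_cons, mul_comm, map_mul, Module.End.mul_apply] at h
    by_cases h0 : aeval T (X - C a : k[X]) y = 0
    · refine ⟨a, Multiset.mem_cons_self a s, y, hy, ?_⟩
      simpa [sub_eq_zero] using h0
    · obtain ⟨b, hb, z, hz⟩ := ih _ h0 h
      exact ⟨b, Multiset.mem_cons_of_mem hb, z, hz⟩

variable {K : Type u} [Field K] [Algebra k K] [Algebra K M] [IsScalarTower k K M]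

theorem exists_eigenvector [IsAlgClosed k] [CharZero k] [FiniteDimensional K M] (τ : M ≃ₐ[K] M) (hτ : τ ≠ 1) :
    ∃ (ζ : k) (z : M), ζ ≠ 1 ∧ z ≠ 0 ∧ τ z = algebraMap k M ζ * z := by
  obtain ⟨y, hy⟩ : ∃ y, τ y ≠ y := by
    by_contra h
    push Not at h
    exact hτ (AlgEquiv.ext h)
  have hord : 0 < orderOf τ := orderOf_pos τ
  set m := orderOf τ with hm
  let T : M →ₗ[k] M := (τ.toLinearMap).restrictScalars k
  have hT : ∀ i : ℕ, ∀ z, (T ^ i) z = (τ ^ i) z := by
    intro i
    induction i with
    | zero => intro z; rfl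
    | succ i ih => intro z; rw [pow_succ, pow_succ, Module.End.mul_apply, ih]; rfl
  let g : k[X] := ∑ i ∈ Finset.range m, X ^ i
  have hg1 : g.eval 1 = m := by simp [g, eval_finsetSum]
  have hg0 : g ≠ 0 := by
    intro h
    rw [h, eval_zero] at hg1
    exact hord.ne' (by exact_mod_cast hg1.symm)
  have hy' : T y - y ≠ 0 := sub_ne_zero.2 hy
  have h1 : aeval T g (T y - y) = 0 := by
    have h2 : aeval T g * (T - 1) = T ^ m - 1 := by
      have : g * (X - 1) = X ^ m - 1 := geom_sum_mul X m
      have h3 := congrArg (aeval T) this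
      simpa using h3
    have h4 := congrArg (fun S : Module.End k M => S y) h2
    simp only [Module.End.mul_apply, LinearMap.sub_apply, Module.End.one_apply] at h4
    rw [h4, hT, hm, pow_orderOf_eq_one]
    simp
  have hsplit : g = C g.leadingCoeff * (g.roots.map fun a => X - C a).prod :=
    (IsAlgClosed.splits g).eq_prod_roots
  have h5 : aeval T (g.roots.map fun a => X - C a).prod (T y - y) = 0 := by
    rw [hsplit, map_mul, Module.End.mul_apply, aeval_C, Module.algebraMap_end_apply] at h1
    exact (smul_eq_zero.1 h1).resolve_left (leadingCoeff_ne_zero.2 hg0)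
  obtain ⟨ζ, hζ, z, hz, hTz⟩ := exists_root_eigen T _ _ hy' h5
  refine ⟨ζ, z, ?_, hz, ?_⟩
  · rintro rfl
    have h6 : g.eval 1 = 0 := (mem_roots hg0).1 hζ
    rw [hg1] at h6
    exact hord.ne' (by exact_mod_cast h6)
  · rw [← Algebra.smul_def]; exact hTz

end eigen

section val

variable {K Ω : Type u} [Field K] [Field Ω] [Algebra K Ω] {Γ : Type*} [LinearOrderedCommGroupWithZero Γ]
  (v : Valuation Ω Γ)

/-- The value of an algebraic element is a root of the value of the ratio of two coefficients of a polynomial which kills it. -/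
theorem exists_pow_eq (p : K[X]) (hp : p ≠ 0) (α : Ω) (hα : α ≠ 0) (h : aeval α p = 0) :
    ∃ i l : ℕ, i < l ∧ l ≤ p.natDegree ∧ p.coeff i ≠ 0 ∧ p.coeff l ≠ 0 ∧
      v α ^ (l - i) = v (algebraMap K Ω (p.coeff i / p.coeff l)) := by
  classical
  have hvα : v α ≠ 0 := (Valuation.ne_zero_iff _).2 hα
  by_contra hcon
  push Not at hcon
  let t : ℕ → Ω := fun i => algebraMap K Ω (p.coeff i) * α ^ i
  have ht0 : ∀ i ∈ p.support, t i ≠ 0 := fun i hi =>
    mul_ne_zero (by simpa using Polynomial.mem_support_iff.1 hi) (pow_ne_zero _ hα)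
  have hne : ∀ i ∈ p.support, ∀ l ∈ p.support, i < l → v (t i) ≠ v (t l) := by
    intro i hi l hl hil heq
    have hi0 := Polynomial.mem_support_iff.1 hi
    have hl0 := Polynomial.mem_support_iff.1 hl
    refine hcon i l hil (Polynomial.le_natDegree_of_ne_zero hl0) hi0 hl0 ?_
    simp only [t, map_mul, map_pow] at heq
    have h1 : v (algebraMap K Ω (p.coeff l)) ≠ 0 := (Valuation.ne_zero_iff _).2 (by simpa using hl0)
    rw [map_div₀, map_div₀, eq_div_iff h1]
    have h2 : v α ^ l = v α ^ (l - i) * v α ^ i := by rw [← pow_add]; congr 1; omega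
    rw [h2] at heq
    have h3 : v α ^ i ≠ 0 := pow_ne_zero _ hvα
    apply mul_right_cancel₀ h3
    rw [heq, mul_comm (v α ^ (l - i)), mul_assoc]
  obtain ⟨i₀, hi₀, hmax⟩ := Finset.exists_max_image p.support (fun i => v (t i)) (Polynomial.support_nonempty.2 hp)
  have hlt : ∀ i ∈ p.support \ {i₀}, v (t i) < v (t i₀) := by
    intro i hi
    obtain ⟨hi1, hi2⟩ := Finset.mem_sdiff.1 hi
    refine lt_of_le_of_ne (hmax i hi1) fun heq => ?_
    rcases lt_trichotomy i i₀ with h1 | h1 | h1
    · exact hne i hi1 i₀ hi₀ h1 heq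
    · exact hi2 (Finset.mem_singleton.2 h1)
    · exact hne i₀ hi₀ i hi1 h1 heq.symm
  have hsum : ∑ i ∈ p.support, t i = 0 := by
    rw [← h, aeval_def, eval₂_eq_sum, Polynomial.sum]
  have h1 := Valuation.map_sum_eq_of_lt v (f := t) (j := i₀) hi₀ hlt
  rw [hsum, map_zero] at h1
  exact ht0 i₀ hi₀ ((Valuation.zero_iff v).1 h1.symm)

end val

section resid

variable {R Ω : Type u} [CommRing R] [HenselianLocalRing R] [IsAlgClosed (ResidueField R)] [Field Ω] [Algebra R Ω]
  (V : ValuationSubring Ω) (hV1 : ∀ r : R, algebraMap R Ω r ∈ V)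
  (hV2 : ∀ r ∈ maximalIdeal R, V.valuation (algebraMap R Ω r) < 1)

include hV1 hV2 in
/-- An element integral over `R` is congruent to an element of `R`. -/
theorem exists_residue (u : Ω) (hu : IsIntegral R u) : ∃ c : R, V.valuation (u - algebraMap R Ω c) < 1 := by
  obtain ⟨q, hq, hqu⟩ := hu
  by_contra hcon
  push Not at hcon
  have huV : u ∈ V := HensVal.mem_of_isIntegral V hV1 ⟨q, hq, hqu⟩
  choose s hs using IsLocalRing.residue_surjective (R := R)
  set q' := q.map (residue R) with hq'
  have hsplit : q' = (q'.roots.map fun a => X - C a).prod :=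
    (IsAlgClosed.splits q').eq_prod_roots_of_monic (hq.map _)
  let P : R[X] := (q'.roots.map fun a => X - C (s a)).prod
  have hP : P.map (residue R) = q' := by
    conv_rhs => rw [hsplit]
    simp only [P, Polynomial.map_multiset_prod, Multiset.map_map, Function.comp_def, Polynomial.map_sub, map_X, map_C, hs]
  have hmem : ∀ i, (q - P).coeff i ∈ maximalIdeal R := by
    intro i
    rw [← residue_eq_zero_iff, ← coeff_map, Polynomial.map_sub, hP, ← hq', sub_self, coeff_zero]
  have h1 : V.valuation (aeval u (q - P)) < 1 := by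
    rw [aeval_eq_sum_range]
    refine Valuation.map_sum_lt _ one_ne_zero fun i _ => ?_
    rw [Algebra.smul_def, map_mul]
    have h3 : V.valuation (u ^ i) ≤ 1 := (V.valuation_le_one_iff _).2 (pow_mem huV _)
    exact (mul_le_of_le_one_right' h3).trans_lt (hV2 _ (hmem i))
  have h2 : aeval u q = 0 := hqu
  rw [map_sub, h2, zero_sub, Valuation.map_neg] at h1
  have h4 : aeval u P = (q'.roots.map fun a => u - algebraMap R Ω (s a)).prod := by
    simp only [P, map_multiset_prod, Multiset.map_map, Function.comp_def, map_sub, aeval_X, aeval_C]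
  rw [h4, map_multiset_prod, Multiset.map_map] at h1
  have h5 : ∀ t : Multiset (ResidueField R),
      1 ≤ (t.map (V.valuation ∘ fun a => u - algebraMap R Ω (s a))).prod := by
    intro t
    induction t using Multiset.induction_on with
    | empty => simp
    | cons a t ih =>
      rw [Multiset.map_cons, Multiset.prod_cons]
      exact one_le_mul (hcon _) ih
  exact absurd h1 (not_lt.2 (h5 _))

end resid

section main

variable {k K M F R : Type u} [Field k] [IsAlgClosed k] [CharZero k] [Field K] [Algebra k K]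
  [Field M] [Algebra K M] [Algebra k M] [IsScalarTower k K M] [FiniteDimensional K M] [IsGalois K M]
  [CommRing R] [IsDomain R] [ValuationRing R] [HenselianLocalRing R] [IsAlgClosed (ResidueField R)]
  [Field F] [Algebra R F] [IsFractionRing R F] [Algebra K F] [Algebra k R] [Algebra k F] [IsScalarTower k R F]
  [IsScalarTower k K F]

omit [IsAlgClosed k] [CharZero k] [FiniteDimensional K M] [IsGalois K M] [Algebra k K] [Algebra k M]
  [IsScalarTower k K M] [IsScalarTower k K F] in
theorem eq_one_aux {Ω : Type u} [Field Ω] [Algebra F Ω] [Algebra.IsAlgebraic F Ω] [Algebra K Ω] [IsScalarTower K F Ω]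
    [Algebra R Ω] [IsScalarTower R F Ω] [Algebra M Ω] [IsScalarTower K M Ω]
    (V : ValuationSubring Ω) (hV1 : ∀ r : R, algebraMap R Ω r ∈ V)
    (hV2 : ∀ r ∈ maximalIdeal R, V.valuation (algebraMap R Ω r) < 1)
    (N : ℕ) (y : M) (hy0 : y ≠ 0) (hy : IsIntegral K y) (ζ : k) (hζ : ζ ≠ 1)
    (hN : ∀ m, 0 < m → m ≤ (minpoly K y).natDegree → m ∣ N)
    (hroot : ∀ i j, (minpoly K y).coeff i ≠ 0 → (minpoly K y).coeff j ≠ 0 →
      ∃ r : F, r ^ N = algebraMap K F ((minpoly K y).coeff i / (minpoly K y).coeff j))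
    (σ : Ω ≃ₐ[F] Ω) (hσ : σ (algebraMap M Ω y) = algebraMap F Ω (algebraMap k F ζ) * algebraMap M Ω y) : False := by
  have hmem := HensVal.mem_iff F V hV1 hV2
  set v := V.valuation with hv
  let α := algebraMap M Ω y
  have hα : α ≠ 0 := by simpa [α] using hy0
  have hvα : v α ≠ 0 := (Valuation.ne_zero_iff _).2 hα
  have h0 : aeval α (minpoly K y) = 0 := by
    rw [aeval_algebraMap_apply, minpoly.aeval, map_zero]
  obtain ⟨i, l, hil, hl, hi0, hl0, hpow⟩ := exists_pow_eq v (minpoly K y) (minpoly.ne_zero hy) α hα h0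
  obtain ⟨r, hr⟩ := hroot i l hi0 hl0
  obtain ⟨e, he⟩ := hN (l - i) (by omega) (by omega)
  let s : Ω := algebraMap F Ω (r ^ e)
  have hs : v s = v α := by
    have h1 : v s ^ (l - i) = v α ^ (l - i) := by
      rw [hpow, ← map_pow, ← map_pow, ← pow_mul, mul_comm e, ← he, hr, ← IsScalarTower.algebraMap_apply]
    exact (pow_left_inj₀ zero_le zero_le (by omega)).1 h1
  have hs0 : s ≠ 0 := by
    intro h
    rw [h, map_zero] at hs
    exact hvα hs.symm
  have hσs : σ s = s := σ.commutes _
  let u := α / s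
  have hvu : v u = 1 := by
    rw [map_div₀, hs, div_self hvα]
  have hσu : σ u = algebraMap F Ω (algebraMap k F ζ) * u := by
    simp only [u]
    rw [map_div₀, hσs, hσ, mul_div_assoc]
  have huint : IsIntegral R u := (hmem u).1 ((V.valuation_le_one_iff _).1 hvu.le)
  obtain ⟨c, hc⟩ := exists_residue V hV1 hV2 u huint
  have hσV : ∀ z, z ∈ V → σ z ∈ V := by
    intro z hz
    rw [hmem] at hz ⊢
    exact hz.map (σ.toAlgHom.restrictScalars R)
  have hσV' : ∀ z, z ∈ V → σ.symm z ∈ V := by
    intro z hz
    rw [hmem] at hz ⊢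
    exact hz.map (σ.symm.toAlgHom.restrictScalars R)
  have hσlt : ∀ z, v z < 1 → v (σ z) < 1 := by
    intro z hz
    rcases eq_or_ne z 0 with rfl | hz0
    · simp
    by_contra hcon
    rw [not_lt] at hcon
    have hσz0 : σ z ≠ 0 := by simpa using hz0
    have h1 : (σ z)⁻¹ ∈ V := by
      rw [← V.valuation_le_one_iff, map_inv₀]
      exact inv_le_one_of_one_le₀ hcon
    have h2 := hσV' _ h1
    rw [map_inv₀, σ.symm_apply_apply, ← V.valuation_le_one_iff, map_inv₀,
      inv_le_one₀ (zero_lt_iff.2 ((Valuation.ne_zero_iff _).2 hz0))] at h2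
    exact absurd hz (not_lt.2 h2)
  have h3 := hσlt _ hc
  rw [map_sub, hσu] at h3
  have h4 : σ (algebraMap R Ω c) = algebraMap R Ω c := by
    rw [IsScalarTower.algebraMap_apply R F Ω]
    exact σ.commutes _
  rw [h4] at h3
  have h5 : v ((algebraMap F Ω (algebraMap k F ζ) * u - algebraMap R Ω c) - (u - algebraMap R Ω c)) < 1 :=
    (Valuation.map_sub v _ _).trans_lt (max_lt h3 hc)
  have h6 : (algebraMap F Ω (algebraMap k F ζ) * u - algebraMap R Ω c) - (u - algebraMap R Ω c) =
      algebraMap R Ω (algebraMap k R (ζ - 1)) * u := by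
    have h61 : algebraMap R Ω (algebraMap k R (ζ - 1)) = algebraMap F Ω (algebraMap k F ζ) - 1 := by
      rw [IsScalarTower.algebraMap_apply R F Ω, ← IsScalarTower.algebraMap_apply k R F, map_sub, map_sub, map_one,
        map_one]
    rw [h61]
    ring
  rw [h6, map_mul, hvu, mul_one] at h5
  have h7 : IsUnit (algebraMap k R (ζ - 1)) := (IsUnit.mk0 _ (sub_ne_zero.2 hζ)).map _
  have h8 := HensVal.valuation_unit V hV1 h7
  rw [← hv] at h8
  rw [h8] at h5
  exact lt_irrefl _ h5

end main

/-- Tame trivialisation of a finite Galois extension over a strictly henselian valued field. -/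
theorem exists_algHom {k K M F : Type u} [Field k] [IsAlgClosed k] [CharZero k] [Field K] [Algebra k K]
    [Field M] [Algebra K M] [Algebra k M] [IsScalarTower k K M] [FiniteDimensional K M] [IsGalois K M]
    (R : Type u) [CommRing R] [IsDomain R] [ValuationRing R] [HenselianLocalRing R] [IsAlgClosed (ResidueField R)]
    [Field F] [Algebra R F] [IsFractionRing R F] [Algebra K F] [Algebra k R] [Algebra k F] [IsScalarTower k R F]
    [IsScalarTower k K F] (N : ℕ) (hN : ∀ m, 0 < m → m ≤ Module.finrank K M → m ∣ N)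
    (x : (M ≃ₐ[K] M) → M) (ζ : (M ≃ₐ[K] M) → k)
    (hx : ∀ τ, τ ≠ 1 → ζ τ ≠ 1 ∧ x τ ≠ 0 ∧ τ (x τ) = algebraMap k M (ζ τ) * x τ)
    (hroot : ∀ τ, τ ≠ 1 → ∀ i j, (minpoly K (x τ)).coeff i ≠ 0 → (minpoly K (x τ)).coeff j ≠ 0 →
      ∃ r : F, r ^ N = algebraMap K F ((minpoly K (x τ)).coeff i / (minpoly K (x τ)).coeff j)) :
    Nonempty (M →ₐ[K] F) := by
  let Ω := AlgebraicClosure F
  let j : M →ₐ[K] Ω := IsAlgClosed.lift
  let _ : Algebra M Ω := j.toRingHom.toAlgebra
  have _ : IsScalarTower K M Ω := IsScalarTower.of_algebraMap_eq fun a => (j.commutes a).symm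
  obtain ⟨V, hV1, hloc⟩ := IsLocalRing.exists_factor_valuationRing (R := R) (algebraMap R Ω)
  have hV2 : ∀ r ∈ maximalIdeal R, V.valuation (algebraMap R Ω r) < 1 := by
    intro r hr
    have h1 : ¬ IsUnit ((algebraMap R Ω).codRestrict V.toSubring hV1 r) := fun h => hr (hloc.map_nonunit _ h)
    exact (V.valuation_lt_one_iff _).1 ((mem_maximalIdeal _).2 h1)
  have hchar : CharZero K := charZero_of_injective_algebraMap (algebraMap k K).injective
  have hcharF : CharZero F := charZero_of_injective_algebraMap (algebraMap k F).injective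
  have key : ∀ (σ : Ω ≃ₐ[F] Ω) (y : M), σ (algebraMap M Ω y) = algebraMap M Ω y := by
    intro σ
    let j' : M →ₐ[K] Ω := ((σ : Ω →ₐ[F] Ω).restrictScalars K).comp (IsScalarTower.toAlgHom K M Ω)
    let τ := Normal.algHomEquivAut K Ω M j'
    have hτ : ∀ y, σ (algebraMap M Ω y) = algebraMap M Ω (τ y) := by
      intro y
      have : (Normal.algHomEquivAut K Ω M).symm τ = j' := (Normal.algHomEquivAut K Ω M).symm_apply_apply j'
      exact (DFunLike.congr_fun this y).symm
    by_cases h1 : τ = 1
    · intro y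
      rw [hτ, h1]; rfl
    · exfalso
      obtain ⟨hζ, hx0, hxτ⟩ := hx τ h1
      have hint : IsIntegral K (x τ) := Algebra.IsIntegral.isIntegral _
      refine eq_one_aux (F := F) (R := R) (Ω := Ω) V hV1 hV2 N (x τ) hx0 hint (ζ τ) hζ
        (fun m hm0 hm => hN m hm0 (hm.trans (minpoly.natDegree_le _))) (hroot τ h1) σ ?_
      rw [hτ, hxτ, map_mul]
      congr 1
      rw [IsScalarTower.algebraMap_apply k K M, ← IsScalarTower.algebraMap_apply K M Ω,
        IsScalarTower.algebraMap_apply k K F, ← IsScalarTower.algebraMap_apply K F Ω]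
  have hGal : IsGalois F Ω := inferInstance
  have key2 : ∀ y : M, ∃ z : F, algebraMap F Ω z = algebraMap M Ω y := fun y =>
    (InfiniteGalois.mem_range_algebraMap_iff_fixed _).2 fun σ => key σ y
  choose f hf using key2
  have hinj := (algebraMap F Ω).injective
  exact ⟨{
    toFun := f
    map_one' := hinj (by rw [hf, map_one, map_one])
    map_mul' := fun a b => hinj (by rw [map_mul, hf, hf, hf, map_mul])
    map_zero' := hinj (by rw [hf, map_zero, map_zero])
    map_add' := fun a b => hinj (by rw [map_add, hf, hf, hf, map_add])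
    commutes' := fun a => hinj (by rw [hf, ← IsScalarTower.algebraMap_apply, ← IsScalarTower.algebraMap_apply]) }⟩

end K299.Tame
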