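import Groth.Agent.NonAbH1.K299.Tame
import Groth.Agent.NonAbH1.K299.SplitExt
import Groth.Agent.NonAbH1.K299.KummerExt
import Groth.Agent.S1975
import Groth.Agent.S0537
import Groth.Agent.S1143

/-!
# A finite étale algebra over `K ⊇ k` extends, after a finite abelian extension `L / K`, to all the valuation rings of `L / k`
-/

set_option autoImplicit false
universe u

namespace K299.ValExt

open IsLocalRing Polynomial TensorProduct

/-- The step over one valuation ring. -/
theorem extends_of_roots {k K B M L : Type u} [Field k] [IsAlgClosed k] [CharZero k] [Field K] [Algebra k K]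
    [CommRing B] [Algebra K B] [Algebra.Etale K B] [Module.Finite K B]
    [Field M] [Algebra K M] [Algebra k M] [IsScalarTower k K M] [FiniteDimensional K M] [IsGalois K M]
    {ι : Type u} [Finite ι] (e : M ⊗[K] B ≃ₐ[M] (ι → M))
    [Field L] [Algebra K L] [Algebra k L] [IsScalarTower k K L]
    (N : ℕ) (hN : ∀ m, 0 < m → m ≤ Module.finrank K M → m ∣ N)
    (x : (M ≃ₐ[K] M) → M) (ζ : (M ≃ₐ[K] M) → k)
    (hx : ∀ τ, τ ≠ 1 → ζ τ ≠ 1 ∧ x τ ≠ 0 ∧ τ (x τ) = algebraMap k M (ζ τ) * x τ)
    (hroot : ∀ τ, τ ≠ 1 → ∀ i j, (minpoly K (x τ)).coeff i ≠ 0 → (minpoly K (x τ)).coeff j ≠ 0 →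
      ∃ r : L, r ^ N = algebraMap K L ((minpoly K (x τ)).coeff i / (minpoly K (x τ)).coeff j))
    (W : ValuationSubring L) (hW : ∀ a : k, algebraMap k L a ∈ W) :
    ∃ (C : Type u) (_ : CommRing C) (_ : Algebra W C), Algebra.Etale W C ∧ Module.Finite W C ∧
      Nonempty (L ⊗[W] C ≃ₐ[L] L ⊗[K] B) := by
  obtain ⟨R, _, _, _, _, hR⟩ := Groth.Agent.S0537.result W
  obtain ⟨hdom, hval, hinj, -⟩ := Groth.Agent.S1975.result W R (Or.inr hR)
  have hval' : ValuationRing R := hval hdom
  have hhens : HenselianLocalRing R := hR.henselian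
  let φ : k →+* W := (algebraMap k L).codRestrict W.toSubring hW
  let _ : Algebra k R := ((algebraMap W R).comp φ).toAlgebra
  let F := FractionRing R
  have hWF : Function.Injective ((algebraMap R F).comp (algebraMap W R)) :=
    (IsFractionRing.injective R F).comp hinj
  let ψ : L →+* F := IsFractionRing.lift hWF
  have hψ : ∀ a : W, ψ (algebraMap W L a) = algebraMap R F (algebraMap W R a) := fun a =>
    IsFractionRing.lift_algebraMap hWF a
  let _ : Algebra L F := ψ.toAlgebra
  have _ : IsScalarTower W L F := IsScalarTower.of_algebraMap_eq fun a => by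
    rw [IsScalarTower.algebraMap_apply W R F]; exact (hψ a).symm
  let _ : Algebra K F := (ψ.comp (algebraMap K L)).toAlgebra
  have _ : IsScalarTower K L F := IsScalarTower.of_algebraMap_eq' rfl
  have _ : IsScalarTower k K F := IsScalarTower.of_algebraMap_eq fun a => by
    have h1 : algebraMap K F (algebraMap k K a) = ψ (algebraMap K L (algebraMap k K a)) := rfl
    have h2 : algebraMap k L a = algebraMap W L (φ a) := rfl
    rw [h1, ← IsScalarTower.algebraMap_apply, h2, hψ, IsScalarTower.algebraMap_apply k R F]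
    rfl
  have hchar : CharZero (ResidueField R) :=
    charZero_of_injective_algebraMap (R := k) (((residue R).comp (algebraMap k R)).injective)
  have hsep : IsSepClosed (ResidueField R) := hR.isSepClosure.sep_closed
  have halg : IsAlgClosed (ResidueField R) := IsSepClosed.isAlgClosed_of_perfectField _
  obtain ⟨f⟩ := Tame.exists_algHom (F := F) R N hN x ζ hx (fun τ hτ i j hi hj => by
    obtain ⟨r, hr⟩ := hroot τ hτ i j hi hj
    exact ⟨algebraMap L F r, by rw [← map_pow, hr, ← IsScalarTower.algebraMap_apply]⟩)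
  obtain ⟨e'⟩ := SplitExt.split_of_algHom K B f e
  let e2 : F ⊗[L] (L ⊗[K] B) ≃ₐ[F] (ι → F) :=
    (Algebra.TensorProduct.cancelBaseChange K L F F B).trans e'
  have hlaz : Groth.Agent.Pi1C.IndEtaleWE.Lazard W R :=
    Groth.Agent.Pi1C.StrictHensWE.lazard_of_isStrictHenselization W R
  have hflat : Module.Flat W R := Groth.Agent.Pi1C.IndEtaleWE.flat_of_lazard hlaz
  have hff : Module.FaithfullyFlat W R := Module.FaithfullyFlat.of_flat_of_isLocalHom
  obtain ⟨h1, h2⟩ := Groth.Agent.Pi1C.SplitIntClosure.finite_and_etale hlaz (L ⊗[K] B) ι e2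
  have hint : Algebra.IsIntegral L (L ⊗[K] B) := inferInstance
  obtain ⟨e3⟩ := Groth.Agent.Pi1C.SplitIntClosure.nonempty_equiv_of_integral (A := W) (K := L) (L ⊗[K] B)
  exact ⟨integralClosure W (L ⊗[K] B), inferInstance, inferInstance, h2, h1, ⟨e3⟩⟩

/-- The abelian extension `L / K` over which the finite étale algebra `B` becomes unramified at all valuations. -/
theorem exists_abelian (k K B : Type u) [Field k] [IsAlgClosed k] [CharZero k] [Field K] [Algebra k K]
    [CommRing B] [Algebra K B] [Algebra.Etale K B] [Module.Finite K B] :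
    ∃ (L : Type u) (_ : Field L) (_ : Algebra K L) (_ : FiniteDimensional K L) (_ : IsGalois K L),
      (∀ σ τ : L ≃ₐ[K] L, σ * τ = τ * σ) ∧
      ∀ (W : ValuationSubring L) (_ : ∀ a : k, algebraMap K L (algebraMap k K a) ∈ W),
        ∃ (C : Type u) (_ : CommRing C) (_ : Algebra W C), Algebra.Etale W C ∧ Module.Finite W C ∧
          Nonempty (L ⊗[W] C ≃ₐ[L] L ⊗[K] B) := by
  classical
  have hchar : CharZero K := charZero_of_injective_algebraMap (algebraMap k K).injective
  obtain ⟨M, _, _, _, _, ι, _, ⟨e⟩⟩ := SplitExt.exists_split K B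
  let _ : Algebra k M := ((algebraMap K M).comp (algebraMap k K)).toAlgebra
  have _ : IsScalarTower k K M := IsScalarTower.of_algebraMap_eq' rfl
  have hex : ∀ τ : M ≃ₐ[K] M, ∃ (ζ : k) (z : M), τ ≠ 1 → ζ ≠ 1 ∧ z ≠ 0 ∧ τ z = algebraMap k M ζ * z := by
    intro τ
    by_cases h : τ = 1
    · exact ⟨0, 0, fun h' => absurd h h'⟩
    · obtain ⟨ζ, z, h1⟩ := Tame.exists_eigenvector (k := k) τ h
      exact ⟨ζ, z, fun _ => h1⟩
  choose ζ x hx using hex
  let N := (Module.finrank K M).factorial
  let S : Finset K := Finset.univ.biUnion fun τ : M ≃ₐ[K] M =>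
    (Finset.range ((minpoly K (x τ)).natDegree + 1) ×ˢ Finset.range ((minpoly K (x τ)).natDegree + 1)).image
      fun ij => (minpoly K (x τ)).coeff ij.1 / (minpoly K (x τ)).coeff ij.2
  obtain ⟨L, _, _, hfd, hgal, hcomm, hroot⟩ := KummerExt.exists_kummer k K S N (Nat.factorial_ne_zero _)
  refine ⟨L, inferInstance, inferInstance, hfd, hgal, hcomm, fun W hW => ?_⟩
  let _ : Algebra k L := ((algebraMap K L).comp (algebraMap k K)).toAlgebra
  have _ : IsScalarTower k K L := IsScalarTower.of_algebraMap_eq' rfl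
  refine extends_of_roots (k := k) e N (fun m h0 h1 => Nat.dvd_factorial h0 h1) x ζ hx
    (fun τ _ i j hi hj => hroot _ ?_) W hW
  refine Finset.mem_biUnion.2 ⟨τ, Finset.mem_univ _, Finset.mem_image.2 ⟨(i, j), ?_, rfl⟩⟩
  exact Finset.mem_product.2 ⟨Finset.mem_range.2 (Nat.lt_succ_of_le (le_natDegree_of_ne_zero hi)),
    Finset.mem_range.2 (Nat.lt_succ_of_le (le_natDegree_of_ne_zero hj))⟩

end K299.ValExt
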